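import Cfsg.Agent.R2.Spec.NA.Glue
import Cfsg.Agent.R2.Spec.NA.Inst
import Cfsg.Agent.R2.Spec.E.HOdd
import Cfsg.Agent.R2.Spec.E.NonCL

/-!
# S3435, packet NA-GLUE (helper27): the hypotheses `ND` from `Duel`

`Duel.nd`.
-/

set_option autoImplicit false

namespace Cfsg.Agent.R2.Spec.E

open Cfsg Cfsg.Agent.H426.LieFam Cfsg.Agent.R2.Spec Cfsg.Agent.R2.Spec.P1 Cfsg.Agent.R2.Spec.F1 Cfsg.Agent.R2.Spec.X5
open Cfsg.Agent.H403 Cfsg.Agent.H403.NumTop Cfsg.Agent.R2.Spec.NA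

theorem dgL_le {t : Fam} {q : ℕ} (hr : 4 ≤ rk t) : dgL t q ≤ dimL t + 1 := by
  cases t with
  | psl n =>
    change 4 ≤ n at hr
    change Nat.gcd n (q - 1) ≤ n - 1 + 1
    have := Nat.gcd_le_left (q - 1) (show 0 < n by omega)
    omega
  | psu n =>
    change 4 ≤ n at hr
    change Nat.gcd n (q + 1) ≤ n - 1 + 1
    have := Nat.gcd_le_left (q + 1) (show 0 < n by omega)
    omega
  | _ => exact Nat.succ_le_succ (Nat.zero_le _)

theorem size7 {t : Fam} {q M : ℕ} (hr : 4 ≤ rk t) (hD : 7 ≤ dimL t) (hq : 3 ≤ q)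
    (h : q ^ dimL t ≤ 8 * dgL t q * M) : q ^ 7 ≤ 64 * M := by
  have h1 := dgL_le (q := q) hr
  obtain ⟨r, hr'⟩ : ∃ r, dimL t = 7 + r := ⟨dimL t - 7, by omega⟩
  rw [hr'] at h h1
  have h2 : 8 + r ≤ 8 * q ^ r := by
    have h3 : r < 3 ^ r := Nat.lt_pow_self (by norm_num)
    have h4 : 3 ^ r ≤ q ^ r := Nat.pow_le_pow_left hq r
    have h5 : 1 ≤ q ^ r := Nat.one_le_pow _ _ (by omega)
    omega
  have h6 : q ^ 7 * q ^ r ≤ 64 * M * q ^ r := by
    calc q ^ 7 * q ^ r = q ^ (7 + r) := (pow_add q 7 r).symm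
      _ ≤ 8 * dgL t q * M := h
      _ ≤ 8 * (8 * q ^ r) * M := Nat.mul_le_mul_right _ (Nat.mul_le_mul_left _ (h1.trans (by omega)))
      _ = 64 * M * q ^ r := by ring
  exact Nat.le_of_mul_le_mul_right h6 (Nat.pow_pos (by omega))

/-- the value of the isolated number -/
theorem gcd_mul_ttor {t' : Fam} {m : ℕ} {e : Bool} (ht : IsA t' m e) {u i' : ℕ} (hm : 7 ≤ m) (hu : 2 ≤ u)
    (hi : P1.top t' i') : ∃ s : Bool, i' = ii s m ∧ Nat.gcd m (AA e 1 u) * ttor t' u i' = ZZ s e m u := by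
  have hA := AA_pos (e := e) hu (le_refl 1)
  rw [top_A ht] at hi
  cases t' with
  | psl n =>
    obtain ⟨rfl, rfl⟩ := ht
    obtain ⟨h1, h2⟩ := val_psl (n := n) (q := u) (by omega) hu
    have e1 : AA true 1 u = u - 1 := by rw [AA_true, pow_one]
    rcases hi.2 with rfl | h3
    · refine ⟨true, rfl, ?_⟩
      change _ = YY true i' u
      refine Nat.eq_of_mul_eq_mul_right hA ?_
      rw [YY_mul hu, AA_true (n := i'), ← h1, e1]
      ring
    · obtain rfl : i' = n - 1 := by omega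
      refine ⟨false, rfl, ?_⟩
      change _ = AA true (n - 1) u
      rw [AA_true (n := n - 1), ← h2, e1]
      ring
  | psu n =>
    obtain ⟨rfl, rfl⟩ := ht
    obtain ⟨h1, h2⟩ := val_psu (n := n) (q := u) (by omega) hu
    have e1 : AA false 1 u = u + 1 := by rw [AA_false_odd (n := 1) rfl, pow_one]
    rcases hi.2 with rfl | h3
    · refine ⟨true, rfl, ?_⟩
      change _ = YY false i' u
      refine Nat.eq_of_mul_eq_mul_right hA ?_
      have e2 : AA false i' u = if i' % 2 = 0 then u ^ i' - 1 else u ^ i' + 1 := by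
        split_ifs with h4
        · exact AA_false_even h4
        · exact AA_false_odd (by omega)
      rw [YY_mul hu, e2, ← h1, e1]
      ring
    · obtain rfl : i' = n - 1 := by omega
      refine ⟨false, rfl, ?_⟩
      change _ = AA false (n - 1) u
      have e2 : AA false (n - 1) u = if n % 2 = 0 then u ^ (n - 1) + 1 else u ^ (n - 1) - 1 := by
        split_ifs with h4
        · exact AA_false_odd (by omega)
        · exact AA_false_even (by omega)
      rw [e2, ← h2, e1]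
      ring
  | _ => exact ht.elim

variable {t : Fam} {p f i j : ℕ} {t' : Fam} {v f' i' j' w H : ℕ} {S : Type} [Group S] [Finite S]

/-- **The hypotheses of the packet NON-A.** -/
theorem Duel.nd (h : Duel t p f i j t' v f' i' j' w H S) (hr : 4 ≤ rk t) (hD : 7 ≤ dimL t) {m : ℕ} (hm : 7 ≤ m)
    (ht' : t' = .psl m ∨ t' = .psu m) (hj : ¬ top t' j') :
    ∃ (s e : Bool) (a b c : ℤ), ND s e m j' (v ^ f') (p ^ f) p H (ttor t (p ^ f) i) (ttor t (p ^ f) j)
      (Nat.gcd m (AA e 1 (v ^ f'))) a b c ∧ (p ^ f) ^ 7 ≤ 64 * ttor t (p ^ f) i ∧ (T2 a b c → FamII t) ∧ 1 ≤ H ∧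
      H % 2 = 1 ∧ ¬ 3 ∣ H ∧ ∃ w0, 2 ≤ w0 ∧ v ^ f' = w0 ^ H := by
  obtain ⟨e, ht⟩ : ∃ e, IsA t' m e := by
    rcases ht' with rfl | rfl
    · exact ⟨true, rfl, rfl⟩
    · exact ⟨false, rfl, rfl⟩
  have hu := h.u_two
  obtain ⟨hq3, hq2⟩ := f_q h.p_prime h.p_ne h.f_pos
  obtain ⟨s, hs, hval⟩ := gcd_mul_ttor ht hm hu h.topi'
  have hDv := duel_A h ht hj
  obtain ⟨a, b, c, hL, hT⟩ := lnum' h.p_prime h.p_ne h.f_pos hr h.pair
  have hpq : p ∣ p ^ f := dvd_pow_self p (by have := h.f_pos; omega)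
  have hpN : ¬ p ∣ ttor t (p ^ f) j := fun hd => h.p_prime.one_lt.ne'
    (Nat.eq_one_of_dvd_coprimes hL.copN hpq hd)
  have hpM : ¬ p ∣ ttor t (p ^ f) i := fun hd => h.p_prime.one_lt.ne'
    (Nat.eq_one_of_dvd_coprimes hL.copM hpq hd)
  have hlin : ∃ n, t' = .psl n ∨ t' = .psu n := ⟨m, ht'⟩
  have hMpos : 0 < ttor t (p ^ f) i := by
    rcases Nat.eq_zero_or_pos (ttor t (p ^ f) i) with h0 | h0
    · rw [h0] at hpM
      exact absurd (dvd_zero p) hpM
    · exact h0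
  have hH1 : 1 ≤ H := by
    rcases Nat.eq_zero_or_pos H with h0 | h0
    · have := h.eqM
      rw [h0, zero_mul] at this
      omega
    · exact h0
  have hna := h.na'
  have hcv := h.clsw'
  rw [cls_A ht] at hcv
  refine ⟨s, e, a, b, c, ⟨hm, h.j'3, hDv.km, ?_, hu, ?_, h.p_prime, hpq, hq3, hL.rel, hL.typ, Nat.gcd_dvd_right _ _, ?_,
    hDv.one, ?_, ?_, ?_, ?_, hpN⟩, size7 hr hD hq3 hL.lowM, fun h2 => (hT h2).1, hH1, ?_, ?_, ?_⟩
  · -- `k ∤ i'`
    rw [← hs]
    rcases ht' with rfl | rfl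
    · exact hna.2.2
    · exact hna.2.2
  · rintro ⟨rfl, hu2, hk3⟩
    have h1 : w ∣ AA false 3 2 := by
      rw [dvd_AA_iff (by norm_num)]
      rw [hu2, hk3] at hcv
      rw [← hcv]
      exact pow_orderOf_eq_one _
    have h2 : AA false 3 2 = 3 ^ 2 := by decide
    rw [h2] at h1
    have h3 := (Nat.prime_dvd_prime_iff_eq h.w_prime Nat.prime_three).1 (h.w_prime.dvd_of_dvd_pow h1)
    have := h.w5
    omega
  · rw [← hval, h.eqM]
    ring
  · exact ((YY_dvd hu).trans (Nat.dvd_lcm_right _ _)).trans hDv.top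
  · intro b' hb' hkb
    exact (Nat.dvd_lcm_right _ _).trans (hDv.two' b' hb' (by omega))
  · exact h.ndu h.p_prime h.vp.symm
  · intro hd
    exact hpM (hd.trans h.H_dvd_M)
  · -- `H` odd
    have h2 : ¬ 2 ∣ H := by
      refine h.not_dvd_H hj Nat.prime_two ?_ (Or.inr (Or.inr hlin))
      by_cases h2 : (2 : ℕ) = v
      · exact Or.inl h2
      · right
        have hodd : v ^ f' % 2 = 1 := by
          rcases Nat.mod_two_eq_zero_or_one (v ^ f') with h3 | h3
          · exfalso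
            exact h.ndu Nat.prime_two h2 (Nat.dvd_of_mod_eq_zero h3)
          · exact h3
        exact cls_le_two_of (Or.inl (by omega)) (by omega)
    omega
  · refine h.not_dvd_H hj Nat.prime_three ?_ (Or.inr (Or.inl (by norm_num)))
    by_cases h3 : (3 : ℕ) = v
    · exact Or.inl h3
    · right
      have h4 := h.ndu Nat.prime_three h3
      have h5 : (v ^ f') % 3 = 1 ∨ (v ^ f') % 3 = 2 := by omega
      refine cls_le_two_of ?_ (by omega)
      omega
  · obtain ⟨x, hx⟩ := (h.H_dvd hj).2 hlin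
    have hx0 : x ≠ 0 := by
      rintro rfl
      have := h.f'_pos
      omega
    exact ⟨v ^ x, h.v_prime.two_le.trans (Nat.le_self_pow hx0 v), by rw [← pow_mul, mul_comm, ← hx]⟩

end Cfsg.Agent.R2.Spec.E
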