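import Cfsg.Agent.R2.Spec.NA.Brute
import Cfsg.Agent.R2.Spec.NA.Nd
import Cfsg.Agent.R2.Spec.E.Stm

/-!
# S3435, packet NON-A (helper3): the row "`w` not isolated, `S` linear or unitary of degree `m ≥ 7`", `dimL t ≥ 7`
-/

set_option autoImplicit false

namespace Cfsg.Agent.R2.Spec.NA

open Cfsg Cfsg.Agent.H426.LieFam Cfsg.Agent.H403.NumTop Cfsg.Agent.R2.Spec Cfsg.Agent.R2.Spec.P1 Cfsg.Agent.R2.Spec.E

/-- **Packet NON-A, all `m ≥ 7`, no size hypothesis.** -/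
theorem nonA_seven {t : Fam} {p f i j : ℕ} {t' : Fam} {v f' i' j' w H : ℕ} {S : Type} [Group S] [Finite S]
    (h : Duel t p f i j t' v f' i' j' w H S) (hr : 4 ≤ rk t) (hD : 7 ≤ dimL t) {m : ℕ} (hm : 7 ≤ m)
    (ht' : t' = .psl m ∨ t' = .psu m) (hj : ¬ top t' j') : FamII t ∧ v ^ f' = 2 := by
  obtain ⟨s, e, a, b, c, hN, hs, hT, hH, h2, h3, hw⟩ := h.nd hr hD hm ht' hj
  obtain ⟨hq3, hq2⟩ := f_q h.p_prime h.p_ne h.f_pos
  obtain ⟨a', b', c', hL⟩ := lnum h.p_prime h.p_ne h.f_pos hr h.pair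
  rcases hN.main rfl hs hH h2 h3 hw with hb | ⟨h4, h5⟩
  · exact (hN.not_bad rfl hs (f := f) rfl (t := t) (i := i) (j := j) hq2 hD h.pair rfl hL.lowM hb).elim
  · exact ⟨hT h4, h5⟩

end Cfsg.Agent.R2.Spec.NA
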