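import Cfsg.Agent.R2.Spec.NA.Main
import Cfsg.Agent.R2.Spec.E.NonCL

/-!
# S3435, packet NON-A (helper3): the leftover numbers are not the numbers of `L`, `dimL t ≥ 7`
-/

set_option autoImplicit false

namespace Cfsg.Agent.R2.Spec.NA

open Cfsg Cfsg.Agent.H426.LieFam Cfsg.Agent.H403.NumTop Cfsg.Agent.R2.Spec Cfsg.Agent.R2.Spec.P1 Cfsg.Agent.R2.Spec.E

def M2 : List ℕ := [43, 57, 63, 85, 127, 129, 255, 341, 455, 511, 513, 683, 1023, 3641, 32767, 1048575]

def M3 : List ℕ := [14762, 6560]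

theorem bad2_M : ∀ x ∈ bad2, ZZ x.2.1 x.2.2 x.1 2 / Nat.gcd x.1 (AA x.2.2 1 2) ∈ M2 := by decide

theorem bad3_M : ∀ x ∈ bad3, ZZ x.2.1 x.2.2 x.1 3 / Nat.gcd x.1 (AA x.2.2 1 3) ∈ M3 ∨
    ZZ x.2.1 x.2.2 x.1 3 / Nat.gcd x.1 (AA x.2.2 1 3) ≤ 1093 := by decide

/-- the numbers of `L` -/
def vals (n q : ℕ) : List ℕ :=
  (if 8 ≤ n then [ttor (.psl n) q n, ttor (.psl n) q (n - 1), ttor (.psu n) q n, ttor (.psu n) q (n - 1)] else []) ++
    ((if 7 ≤ n then [ttor (.psp n) q n, ttor (.psp n) q (2 * n), ttor (.ominus n) q (2 * n),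
      ttor (.ominus n) q (2 * (n - 1)), ttor (.oplus n) q n, ttor (.oplus n) q (2 * (n - 1))] else []) ++
    (if 7 ≤ n then [ttor (.oplus n) q (n - 1)] else []))

def chkV (n q : ℕ) : Bool := (vals n q).all fun x => !M2.contains x && (decide (q = 3) || !M3.contains x)

set_option maxRecDepth 100000 in
theorem chkV_all : ((List.range 20).all fun n => [3, 5, 7, 9, 11, 13].all fun q => chkV n q) = true := by
  decide +kernel

theorem ttor_mem_vals {t : Fam} {q i j : ℕ} (hD : 7 ≤ dimL t) (h : PairOK t i j) :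
    ∃ n, n ≤ dimL t + 1 ∧ ttor t q i ∈ vals n q := by
  cases t with
  | psl n =>
    change 7 ≤ n - 1 at hD
    refine ⟨n, by change n ≤ n - 1 + 1; omega, ?_⟩
    rw [vals, if_pos (show 8 ≤ n by omega)]
    refine List.mem_append_left _ ?_
    rcases h with ⟨rfl, -⟩ | ⟨h, rfl⟩
    · simp
    · obtain rfl : i = j - 1 := by omega
      simp
  | psu n =>
    change 7 ≤ n - 1 at hD
    refine ⟨n, by change n ≤ n - 1 + 1; omega, ?_⟩
    rw [vals, if_pos (show 8 ≤ n by omega)]
    refine List.mem_append_left _ ?_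
    rcases h with ⟨rfl, -⟩ | ⟨h, rfl⟩
    · simp
    · obtain rfl : i = j - 1 := by omega
      simp
  | psp n =>
    change 7 ≤ n at hD
    refine ⟨n, by change n ≤ n + 1; omega, ?_⟩
    rw [vals, if_pos hD]
    refine List.mem_append_right _ (List.mem_append_left _ ?_)
    rcases h with ⟨-, ⟨rfl, -⟩ | ⟨rfl, -⟩⟩ <;> simp
  | oodd n =>
    change 7 ≤ n at hD
    refine ⟨n, by change n ≤ n + 1; omega, ?_⟩
    rw [vals, if_pos hD, ttor_oodd]
    refine List.mem_append_right _ (List.mem_append_left _ ?_)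
    rcases h with ⟨-, ⟨rfl, -⟩ | ⟨rfl, -⟩⟩ <;> simp
  | oplus n =>
    have hn : 7 ≤ n := by
      change 7 ≤ (if n % 2 = 0 then n - 1 else n) at hD
      split_ifs at hD <;> omega
    refine ⟨n, ?_, ?_⟩
    · change n ≤ (if n % 2 = 0 then n - 1 else n) + 1
      split_ifs <;> omega
    · rw [vals, if_pos hn]
      rcases h with ⟨-, ⟨rfl, -⟩ | ⟨rfl, -⟩⟩ | ⟨-, ⟨rfl, -⟩ | ⟨rfl, -⟩⟩
      · refine List.mem_append_right _ (List.mem_append_left _ ?_); simp
      · refine List.mem_append_right _ (List.mem_append_left _ ?_); simp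
      · refine List.mem_append_right _ (List.mem_append_right _ ?_); simp [hn]
      · refine List.mem_append_right _ (List.mem_append_left _ ?_); simp
  | ominus n =>
    change 7 ≤ n at hD
    refine ⟨n, by change n ≤ n + 1; omega, ?_⟩
    rw [vals, if_pos hD]
    refine List.mem_append_right _ (List.mem_append_left _ ?_)
    rcases h with ⟨rfl, -⟩ | ⟨rfl, -⟩ <;> simp
  | _ => exact h.elim

/-- the leftover numbers -/
theorem brute {t : Fam} {q i j M : ℕ} (hq : 3 ≤ q) (hq2 : q % 2 = 1) (hD : 7 ≤ dimL t) (h : PairOK t i j)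
    (hM : M = ttor t q i) (hlow : q ^ dimL t ≤ 8 * dgL t q * M) (hs : q ^ 7 ≤ 64 * M)
    (hmem : M ∈ M2 ∨ (M ∈ M3 ∧ q ≠ 3)) : False := by
  have hMle : M ≤ 1048575 := by
    rcases hmem with h1 | ⟨h1, -⟩
    · simp only [M2, List.mem_cons, List.not_mem_nil, or_false] at h1
      omega
    · simp only [M3, List.mem_cons, List.not_mem_nil, or_false] at h1
      omega
  have hq13 : q ≤ 13 := by
    by_contra hcon
    have h1 : 14 ^ 7 ≤ q ^ 7 := Nat.pow_le_pow_left (by omega) 7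
    norm_num at h1
    omega
  have hdg : dgL t q ≤ q + 1 := by
    cases t with
    | psl n => exact (Nat.gcd_le_right _ (by omega)).trans (by omega)
    | psu n => exact Nat.gcd_le_right _ (by omega)
    | _ => exact Nat.le_add_left _ _
  have hD16 : dimL t ≤ 16 := by
    by_contra hcon
    have h1 : 3 ^ 17 ≤ q ^ dimL t := by
      calc 3 ^ 17 ≤ q ^ 17 := Nat.pow_le_pow_left hq 17
        _ ≤ q ^ dimL t := Nat.pow_le_pow_right (by omega) (by omega)
    have h2 : 8 * dgL t q * M ≤ 8 * 14 * 1048575 :=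
      Nat.mul_le_mul (Nat.mul_le_mul_left _ (hdg.trans (by omega))) hMle
    norm_num at h1 h2
    omega
  obtain ⟨n, hn, hv⟩ := ttor_mem_vals (q := q) hD h
  rw [← hM] at hv
  have h1 := List.all_eq_true.1 chkV_all n (List.mem_range.2 (by omega))
  have h2 := List.all_eq_true.1 h1 q (by
    have : q = 3 ∨ q = 5 ∨ q = 7 ∨ q = 9 ∨ q = 11 ∨ q = 13 := by omega
    simpa using this)
  have h3 := List.all_eq_true.1 h2 M hv
  simp only [Bool.and_eq_true, Bool.or_eq_true, Bool.not_eq_true', decide_eq_true_eq] at h3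
  rcases hmem with h4 | ⟨h4, h5⟩
  · have := List.contains_iff_mem.2 h4
    rw [h3.1] at this; simp at this
  · have h6 := h3.2.resolve_left h5
    have := List.contains_iff_mem.2 h4
    rw [h6] at this; simp at this

variable {s e : Bool} {m k u q p H M N d : ℕ} {a b c : ℤ}

/-- the leftover is impossible -/
theorem ND.not_bad (h : ND s e m k u q p H M N d a b c) (hd : d = Nat.gcd m (AA e 1 u)) (hs : q ^ 7 ≤ 64 * M)
    {f : ℕ} (hqp : q = p ^ f) {t : Fam} {i j : ℕ} (hq2 : q % 2 = 1) (hD : 7 ≤ dimL t) (hP : PairOK t i j)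
    (hM : M = ttor t q i) (hlow : q ^ dimL t ≤ 8 * dgL t q * M) (hb : bad s e m u H = true) : False := by
  have hq := h.q3
  have heq := h.eqM
  have hd0 := h.d_pos
  simp only [bad, Bool.and_eq_true, Bool.or_eq_true, decide_eq_true_eq] at hb
  obtain ⟨rfl, hb⟩ := hb
  rw [one_mul] at heq
  have hMe : M = ZZ s e m u / d := by rw [← heq]; exact (Nat.mul_div_cancel_left _ hd0).symm
  rcases hb with ⟨rfl, hb⟩ | ⟨rfl, hb⟩
  · have h1 := bad2_M _ (List.contains_iff_mem.1 hb)
    simp only [← hd, ← hMe] at h1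
    exact brute hq hq2 hD hP hM hlow hs (Or.inl h1)
  · have hq3 : q ≠ 3 := by
      rintro rfl
      have h5 : p = 3 := (Nat.prime_dvd_prime_iff_eq h.p_prime Nat.prime_three).1 h.pq
      exact h.pu (by rw [h5])
    have h1 := bad3_M _ (List.contains_iff_mem.1 hb)
    simp only [← hd, ← hMe] at h1
    rcases h1 with h1 | h1
    · exact brute hq hq2 hD hP hM hlow hs (Or.inr ⟨h1, hq3⟩)
    · have h6 : 5 ^ 7 ≤ q ^ 7 := Nat.pow_le_pow_left (by omega) 7
      norm_num at h6
      omega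

end Cfsg.Agent.R2.Spec.NA
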