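import Cfsg.Agent.R2.Spec.NA.Inst

/-!
# S3435, packet NON-A (helper3): the crude inequality

`crude s m k u H j` : a sufficient condition, in terms of powers of `u`, for the relation `j` to give a contradiction.
-/

set_option autoImplicit false

namespace Cfsg.Agent.R2.Spec.NA

open Cfsg.Agent.H403.NumTop

/-- `u^τ ≤ 2^α T` -/
def tau (s : Bool) (m k : ℕ) : ℕ → ℕ
  | 0 => if s then k - 1 else k
  | 1 => m - k - 1
  | 2 => m - 1 - Nat.gcd k (m - k)
  | _ => m - 1 - Nat.gcd k (m - 1 - k)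

/-- `ρ ≤ 2^β u^r` -/
def rr (s : Bool) (m k : ℕ) : ℕ → ℕ
  | 0 => m - k - 1
  | 1 => k - 1
  | 2 => if s then max k (m - k) - 1 else max k (m - k)
  | _ => max k (m - 1 - k)

/-- `μ = u^ν` -/
def nu (s : Bool) : ℕ → ℕ
  | 2 => if s then 0 else 1
  | _ => 0

def K1 : ℕ → ℕ
  | 0 => 960 * 2 ^ 21
  | 1 => 960 * 2 ^ 21
  | _ => 960 * 2 ^ 42

def K2 : ℕ → ℕ
  | 0 => 480 ^ 2 * 4 * 2 ^ 19
  | 1 => 480 ^ 2 * 4 * 2 ^ 19
  | _ => 480 ^ 2 * 4 * 2 ^ 33

/-- the zero case is excluded -/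
def zc (s : Bool) (m k u : ℕ) : ℕ → Bool
  | 0 => true
  | 1 => true
  | 2 => decide (k ≠ m - k) && decide ((u + 1) ^ 2 + 2 < u ^ min k (m - k) * (u - 1))
  | 3 => !s && (decide (k ≠ m - 1 - k) && decide ((u + 1) ^ 2 + 2 < u ^ min k (m - 1 - k) * (u - 1)))
  | _ => false

/-- the sufficient condition in terms of powers of `u` -/
def crude (s : Bool) (m k u H j : ℕ) : Bool :=
  (decide (7 * rr s m k j + (m - 1) ≤ 7 * tau s m k j) &&
      decide (K1 j * H ^ 8 < u ^ (7 * tau s m k j - (7 * rr s m k j + (m - 1))))) &&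
    ((decide (7 * nu s j + 5 + 2 * (m - 1) ≤ 7 * tau s m k j) &&
      decide (K2 j * H ^ 2 < u ^ (7 * tau s m k j - (7 * nu s j + 5 + 2 * (m - 1))))) && zc s m k u j)

theorem crude_chk {A B T ρ μ d H Z u τ r ν n : ℕ} (hT : u ^ τ ≤ A * T) (hρ : ρ ≤ B * u ^ r) (hμ : μ = u ^ ν)
    (hd0 : 0 < d) (hd : d ≤ 2 * u) (hZ : Z ≤ 2 * u ^ n) (hA : 0 < A)
    (h1 : 7 * r + n ≤ 7 * τ) (h2 : 960 * (A * B * 2) ^ 7 * H ^ 8 < u ^ (7 * τ - (7 * r + n)))
    (h3 : 7 * ν + 5 + 2 * n ≤ 7 * τ) (h4 : 480 ^ 2 * 4 * (32 * (A * 2) ^ 7) * H ^ 2 < u ^ (7 * τ - (7 * ν + 5 + 2 * n))) :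
    chk 2 T ρ μ d H Z = true := by
  have hT7 : u ^ (7 * τ) ≤ A ^ 7 * T ^ 7 := by
    calc u ^ (7 * τ) = (u ^ τ) ^ 7 := by rw [← pow_mul]; congr 1; ring
      _ ≤ (A * T) ^ 7 := Nat.pow_le_pow_left hT 7
      _ = _ := by ring
  have hA7 : 0 < A ^ 7 := Nat.pow_pos hA
  have hu : 0 < u := by omega
  rw [chk, Bool.and_eq_true, decide_eq_true_eq, decide_eq_true_eq]
  constructor
  · refine lt_of_mul_lt_mul_left ?_ (Nat.zero_le (A ^ 7))
    calc A ^ 7 * ((2 * (H * ρ)) ^ 7 * (480 * (H * Z)))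
        ≤ A ^ 7 * ((2 * (H * (B * u ^ r))) ^ 7 * (480 * (H * (2 * u ^ n)))) := by gcongr
      _ = 960 * (A * B * 2) ^ 7 * H ^ 8 * u ^ (7 * r + n) := by ring
      _ < u ^ (7 * τ - (7 * r + n)) * u ^ (7 * r + n) := Nat.mul_lt_mul_of_pos_right h2 (Nat.pow_pos hu)
      _ = u ^ (7 * τ) := by rw [← pow_add]; congr 1; omega
      _ ≤ A ^ 7 * T ^ 7 := hT7
      _ ≤ A ^ 7 * (((2 - 1) * T) ^ 7 * d) := by
        have : 1 ≤ d := hd0
        rw [show 2 - 1 = 1 from rfl, one_mul]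
        nlinarith [Nat.zero_le (A ^ 7 * T ^ 7)]
  · refine lt_of_mul_lt_mul_left ?_ (Nat.zero_le (A ^ 7))
    calc A ^ 7 * ((2 * (μ * d)) ^ 7 * (480 ^ 2 * (H * Z) ^ 2))
        = A ^ 7 * (2 ^ 7 * μ ^ 7 * d ^ 5 * (480 ^ 2 * (H * Z) ^ 2)) * d ^ 2 := by ring
      _ ≤ A ^ 7 * (2 ^ 7 * μ ^ 7 * (2 * u) ^ 5 * (480 ^ 2 * (H * (2 * u ^ n)) ^ 2)) * d ^ 2 := by gcongr
      _ = 480 ^ 2 * 4 * (32 * (A * 2) ^ 7) * H ^ 2 * u ^ (7 * ν + 5 + 2 * n) * d ^ 2 := by rw [hμ]; ring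
      _ < u ^ (7 * τ - (7 * ν + 5 + 2 * n)) * u ^ (7 * ν + 5 + 2 * n) * d ^ 2 :=
        Nat.mul_lt_mul_of_pos_right (Nat.mul_lt_mul_of_pos_right h4 (Nat.pow_pos hu)) (Nat.pow_pos hd0)
      _ = u ^ (7 * τ) * d ^ 2 := by rw [← pow_add]; congr 2; omega
      _ ≤ A ^ 7 * T ^ 7 * d ^ 2 := Nat.mul_le_mul_right _ hT7
      _ = _ := by ring

theorem absdiff_lo {e : Bool} {a b u : ℕ} (hu : 2 ≤ u) (ha : 1 ≤ a) (hb : 1 ≤ b) (hab : a ≠ b) :
    u ^ min a b * (u - 1) ≤ (AA e a u - AA e b u) + (AA e b u - AA e a u) + 2 := by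
  wlog h : a < b generalizing a b with H
  · have := H hb ha hab.symm (by omega)
    rw [min_comm]; omega
  · rw [min_eq_left h.le]
    have h1 := AA_le (e := e) (n := a) (u := u)
    have h2 := le_AA (e := e) (n := b) (u := u)
    have h3 : u ^ a * u ≤ u ^ b := by rw [← pow_succ]; exact Nat.pow_le_pow_right (by omega) (by omega)
    obtain ⟨r, rfl⟩ : ∃ r, u = r + 1 := ⟨u - 1, by omega⟩
    have h4 : (r + 1) ^ a * (r + 1 - 1) + (r + 1) ^ a = (r + 1) ^ a * (r + 1) := by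
      rw [Nat.add_sub_cancel]; ring
    omega

theorem dist_YY {e : Bool} {a b u : ℕ} (hu : 2 ≤ u) :
    ((YY e a u - YY e b u) + (YY e b u - YY e a u)) * AA e 1 u = (AA e a u - AA e b u) + (AA e b u - AA e a u) := by
  rw [Nat.add_mul, Nat.sub_mul, Nat.sub_mul, YY_mul hu, YY_mul hu]

theorem AA1_le {e : Bool} {u : ℕ} : AA e 1 u ≤ u + 1 := by
  have := AA_le (e := e) (n := 1) (u := u); rwa [pow_one] at this

theorem zc_rZ {s e : Bool} {m k u d H j : ℕ} (hu : 2 ≤ u) (hk : 3 ≤ k) (hkm : k + 2 ≤ m) (hd : d ≤ u + 1) (hH : 1 ≤ H)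
    (hex : ¬ (s = false ∧ e = true ∧ u = 2 ∧ k + 2 = m)) (h : zc s m k u j = true) : rZ s e m k u d H j = true := by
  match j, h with
  | 0, _ =>
    cases s with
    | true => rfl
    | false =>
      simp only [rZ, Bool.false_or, Bool.not_eq_true', Bool.and_eq_false_iff, decide_eq_false_iff_not]
      by_contra hcon
      push Not at hcon
      obtain ⟨⟨h1, h2⟩, h3⟩ := hcon
      exact hex ⟨rfl, by simpa using h1, h2, h3⟩
  | 1, _ => rfl
  | 2, h =>
    rw [zc, Bool.and_eq_true, decide_eq_true_eq, decide_eq_true_eq] at h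
    obtain ⟨h1, h2⟩ := h
    have h3 := absdiff_lo (e := e) hu (show 1 ≤ k by omega) (show 1 ≤ m - k by omega) h1
    cases s with
    | true =>
      simp only [rZ, if_true, decide_eq_true_eq]
      have h4 := dist_YY (e := e) (a := k) (b := m - k) hu
      obtain ⟨D, hD⟩ : ∃ D, D = (YY e k u - YY e (m - k) u) + (YY e (m - k) u - YY e k u) := ⟨_, rfl⟩
      rw [← hD] at h4 ⊢
      have h5 : u + 1 < D := by
        by_contra hcon
        have h6 := Nat.mul_le_mul (not_lt.1 hcon) (AA1_le (e := e) (u := u))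
        rw [← pow_two] at h6
        omega
      calc d ≤ u + 1 := hd
        _ < D := h5
        _ ≤ H * D := Nat.le_mul_of_pos_left _ hH
    | false =>
      simp only [rZ, Bool.false_eq_true, if_false, decide_eq_true_eq]
      obtain ⟨D, hD⟩ : ∃ D, D = (AA e k u - AA e (m - k) u) + (AA e (m - k) u - AA e k u) := ⟨_, rfl⟩
      rw [← hD] at h3 ⊢
      have h4 := AA1_le (e := e) (u := u)
      have h5 : u * (u + 1) < D - AA e 1 u := by
        have : u * (u + 1) + (u + 1) = (u + 1) ^ 2 := by ring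
        omega
      calc u * d ≤ u * (u + 1) := Nat.mul_le_mul_left _ hd
        _ < D - AA e 1 u := h5
        _ ≤ H * (D - AA e 1 u) := Nat.le_mul_of_pos_left _ hH
  | 3, h =>
    rw [zc, Bool.and_eq_true, Bool.and_eq_true, decide_eq_true_eq, decide_eq_true_eq] at h
    obtain ⟨h0, h1, h2⟩ := h
    have hk1 : m - 1 - k ≥ 1 := by omega
    have h3 := absdiff_lo (e := e) hu (show 1 ≤ k by omega) hk1 h1
    rw [rZ, Bool.and_eq_true, decide_eq_true_eq]
    refine ⟨h0, ?_⟩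
    obtain ⟨D, hD⟩ : ∃ D, D = (AA e k u - AA e (m - 1 - k) u) + (AA e (m - 1 - k) u - AA e k u) := ⟨_, rfl⟩
    rw [← hD] at h3 ⊢
    have h5 : u + 1 < D := by nlinarith
    calc d ≤ u + 1 := hd
      _ < D := h5
      _ ≤ H * D := Nat.le_mul_of_pos_left _ hH
  | n + 4, h => simp [zc] at h

theorem ZZ_hi {s e : Bool} {m u : ℕ} (hu : 2 ≤ u) (hm : 1 ≤ m) : ZZ s e m u ≤ 2 * u ^ (m - 1) := by
  unfold ZZ
  split_ifs
  · exact YY_hi hu hm
  · exact AA_hi hu

theorem rT_lo {s e : Bool} {m k u : ℕ} (hu : 2 ≤ u) (hk : 3 ≤ k) (hkm : k + 2 ≤ m) (j : ℕ) :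
    u ^ tau s m k j ≤ (if j < 2 then 2 else 8) * rT s e m k u j := by
  match j with
  | 0 =>
    cases s with
    | true => exact YY_lo (n := k) hu (by omega)
    | false => exact AA_lo (n := k) hu (by omega)
  | 1 => exact YY_lo (n := m - k) hu (by omega)
  | 2 =>
    have h1 := lcm_lo (e := e) (k := k) (n := m - k) (X := YY e (m - k) u) hu (by omega) (YY_dvd hu)
    have h2 := AA_lo (e := e) (n := k) hu (by omega)
    have h3 := YY_lo (e := e) (n := m - k) hu (by omega)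
    have h4 := AA_hi (e := e) (n := Nat.gcd k (m - k)) hu
    have hg : Nat.gcd k (m - k) ≤ m - k := Nat.gcd_le_right _ (by omega)
    have hg' : 0 < u ^ Nat.gcd k (m - k) := Nat.pow_pos (by omega)
    change u ^ (m - 1 - Nat.gcd k (m - k)) ≤ 8 * Nat.lcm (AA e k u) (YY e (m - k) u)
    refine Nat.le_of_mul_le_mul_right ?_ hg'
    calc u ^ (m - 1 - Nat.gcd k (m - k)) * u ^ Nat.gcd k (m - k) = u ^ k * u ^ (m - k - 1) := by
          rw [← pow_add, ← pow_add]; congr 1; omega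
      _ ≤ (2 * AA e k u) * (2 * YY e (m - k) u) := Nat.mul_le_mul h2 h3
      _ = 4 * (AA e k u * YY e (m - k) u) := by ring
      _ ≤ 4 * (Nat.lcm (AA e k u) (YY e (m - k) u) * AA e (Nat.gcd k (m - k)) u) := Nat.mul_le_mul_left _ h1
      _ ≤ 4 * (Nat.lcm (AA e k u) (YY e (m - k) u) * (2 * u ^ Nat.gcd k (m - k))) :=
        Nat.mul_le_mul_left _ (Nat.mul_le_mul_left _ h4)
      _ = _ := by ring
  | n + 3 =>
    have h1 := lcm_lo (e := e) (k := k) (n := m - 1 - k) (X := AA e (m - 1 - k) u) hu (by omega) dvd_rfl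
    have h2 := AA_lo (e := e) (n := k) hu (by omega)
    have hk1 : 1 ≤ m - 1 - k := by omega
    have h3 := AA_lo (e := e) (n := m - 1 - k) hu hk1
    have h4 := AA_hi (e := e) (n := Nat.gcd k (m - 1 - k)) hu
    have hg : Nat.gcd k (m - 1 - k) ≤ m - 1 - k := Nat.gcd_le_right _ (by omega)
    have hg' : 0 < u ^ Nat.gcd k (m - 1 - k) := Nat.pow_pos (by omega)
    change u ^ (m - 1 - Nat.gcd k (m - 1 - k)) ≤ (if n + 3 < 2 then 2 else 8) * Nat.lcm (AA e k u) (AA e (m - 1 - k) u)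
    rw [if_neg (by omega)]
    refine Nat.le_of_mul_le_mul_right ?_ hg'
    calc u ^ (m - 1 - Nat.gcd k (m - 1 - k)) * u ^ Nat.gcd k (m - 1 - k) = u ^ k * u ^ (m - 1 - k) := by
          rw [← pow_add, ← pow_add]; congr 1; omega
      _ ≤ (2 * AA e k u) * (2 * AA e (m - 1 - k) u) := Nat.mul_le_mul h2 h3
      _ = 4 * (AA e k u * AA e (m - 1 - k) u) := by ring
      _ ≤ 4 * (Nat.lcm (AA e k u) (AA e (m - 1 - k) u) * AA e (Nat.gcd k (m - 1 - k)) u) := Nat.mul_le_mul_left _ h1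
      _ ≤ 4 * (Nat.lcm (AA e k u) (AA e (m - 1 - k) u) * (2 * u ^ Nat.gcd k (m - 1 - k))) :=
        Nat.mul_le_mul_left _ (Nat.mul_le_mul_left _ h4)
      _ = _ := by ring

theorem rR_hi {s e : Bool} {m k u : ℕ} (hu : 2 ≤ u) (hk : 3 ≤ k) (hkm : k + 2 ≤ m) (j : ℕ) :
    rR s e m k u j ≤ (if j < 2 then 2 else 4) * u ^ rr s m k j := by
  match j with
  | 0 =>
    cases s with
    | true => exact YY_hi hu (by omega)
    | false =>
      have h1 := AA_hi (e := e) (n := m - 1 - k) hu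
      change AA e (m - 1 - k) u ≤ 2 * u ^ (m - k - 1)
      rwa [show m - k - 1 = m - 1 - k by omega]
  | 1 =>
    cases s with
    | true => exact YY_hi hu (by omega)
    | false => exact AA_hi hu
  | 2 =>
    cases s with
    | true =>
      change YY e k u + YY e (m - k) u ≤ 4 * u ^ (max k (m - k) - 1)
      have h1 := YY_hi (e := e) (n := k) hu (by omega)
      have h2 := YY_hi (e := e) (n := m - k) hu (by omega)
      have h3 : u ^ (k - 1) ≤ u ^ (max k (m - k) - 1) :=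
        Nat.pow_le_pow_right (by omega) (Nat.sub_le_sub_right (le_max_left _ _) _)
      have h4 : u ^ (m - k - 1) ≤ u ^ (max k (m - k) - 1) :=
        Nat.pow_le_pow_right (by omega) (Nat.sub_le_sub_right (le_max_right _ _) _)
      omega
    | false =>
      change AA e k u + AA e (m - k) u + AA e 1 u ≤ 4 * u ^ (max k (m - k))
      have h1 := AA_le (e := e) (n := k) (u := u)
      have h2 := AA_le (e := e) (n := m - k) (u := u)
      have h5 := AA1_le (e := e) (u := u)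
      have h3 : u ^ k ≤ u ^ (max k (m - k)) := Nat.pow_le_pow_right (by omega) (le_max_left _ _)
      have h4 : u ^ (m - k) ≤ u ^ (max k (m - k)) := Nat.pow_le_pow_right (by omega) (le_max_right _ _)
      have h6 : u ^ 3 ≤ u ^ k := Nat.pow_le_pow_right (by omega) hk
      have h7 : u + 3 ≤ 2 * u ^ 3 := by
        have h8 : 4 * u ≤ u ^ 3 := by nlinarith [Nat.mul_le_mul hu hu]
        omega
      omega
  | n + 3 =>
    change AA e k u + AA e (m - 1 - k) u ≤ (if n + 3 < 2 then 2 else 4) * u ^ (max k (m - 1 - k))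
    rw [if_neg (by omega)]
    have h1 := AA_hi (e := e) (n := k) hu
    have h2 := AA_hi (e := e) (n := m - 1 - k) hu
    have h3 : u ^ k ≤ u ^ (max k (m - 1 - k)) := Nat.pow_le_pow_right (by omega) (le_max_left _ _)
    have h4 : u ^ (m - 1 - k) ≤ u ^ (max k (m - 1 - k)) := Nat.pow_le_pow_right (by omega) (le_max_right _ _)
    omega

theorem rMu_eq {s : Bool} {u : ℕ} (j : ℕ) : rMu s u j = u ^ nu s j := by
  match j with
  | 0 => rfl
  | 1 => rfl
  | 2 => cases s <;> simp [rMu, nu]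
  | n + 3 => rfl

/-- the crude condition implies the condition of `semi_false` -/
theorem chk_of_crude {s e : Bool} {m k u d H j : ℕ} (hu : 2 ≤ u) (hk : 3 ≤ k) (hkm : k + 2 ≤ m) (hd0 : 0 < d)
    (hd : d ≤ u + 1) (h : crude s m k u H j = true) :
    chk 2 (rT s e m k u j) (rR s e m k u j) (rMu s u j) d H (ZZ s e m u) = true := by
  rw [crude] at h
  simp only [Bool.and_eq_true, decide_eq_true_eq] at h
  obtain ⟨⟨h1, h2⟩, ⟨h3, h4⟩, -⟩ := h
  refine crude_chk (A := if j < 2 then 2 else 8) (B := if j < 2 then 2 else 4) (rT_lo hu hk hkm j)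
    (rR_hi hu hk hkm j) (rMu_eq j) hd0 (by omega) (ZZ_hi hu (by omega)) (by split_ifs <;> norm_num) h1 ?_ h3 ?_
  · refine lt_of_eq_of_lt ?_ h2
    match j with
    | 0 => simp [K1]
    | 1 => simp [K1]
    | n + 2 => simp [K1]
  · refine lt_of_eq_of_lt ?_ h4
    match j with
    | 0 => simp [K2]
    | 1 => simp [K2]
    | n + 2 => simp [K2]

/-- the crude condition gives a contradiction -/
theorem ND.of_crude {s e : Bool} {m k u q p H M N d : ℕ} {a b c : ℤ} (h : ND s e m k u q p H M N d a b c)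
    (hs : q ^ 7 ≤ 64 * M) (hH : 1 ≤ H) (hex : ¬ (s = false ∧ e = true ∧ u = 2 ∧ k + 2 = m)) {j : ℕ}
    (hc : crude s m k u H j = true) : False := by
  have hz : zc s m k u j = true := by
    rw [crude] at hc
    simp only [Bool.and_eq_true] at hc
    exact hc.2.2
  exact semi_false (by norm_num) h.q3 h.eqM hs (h.bd j (zc_rZ h.u2 h.k3 h.km h.d_le' hH hex hz))
    (chk_of_crude h.u2 h.k3 h.km h.d_pos h.d_le' hc)

end Cfsg.Agent.R2.Spec.NA
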