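import Cfsg.Agent.R2.Spec.NA.TorTop

/-!
# S3435, packets NON-A (helper27): the full torus `k + b = n` of `PSL_n`, `PSU_n`

* `exists_UM_full` : a torus element of `GL_k`, `GU_k` of order `AA k`, with determinant of order `AA 1`;
* `torTopF` : `k + b = n`: an element `x` with `orderOf x * c = lcm (AA k, AA b)`, `c ∣ gcd (n, q ∓ 1)`.
-/

set_option autoImplicit false
set_option linter.unusedSectionVars false

namespace Cfsg.Agent.R2.Spec.NA

open Cfsg Cfsg.Agent.H426.LieFam Cfsg.Agent.R2.Spec Cfsg.Agent.R2.Spec.P1 Cfsg.Agent.R2.Spec.X5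
open Cfsg.Agent.H403 Matrix
open Cfsg.Agent.H403.NumTop

universe u

section

variable {F : Type*} [Field F] [Fintype F]

theorem norm_pow_eq {K : Type*} [Field K] [Finite K] [Algebra F K] (z : Kˣ) {d s : ℕ}
    (hs : (Nat.card K - 1) / (Nat.card F - 1) = s) :
    Algebra.norm F (z : K) ^ d = 1 ↔ orderOf z ∣ s * d := by
  rw [orderOf_dvd_iff_pow_eq_one, ← (algebraMap F K).injective.eq_iff, map_pow,
    FiniteField.algebraMap_norm_eq_pow, hs, map_one, Units.ext_iff, Units.val_pow_eq_pow_val, Units.val_one, pow_mul]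

theorem exists_mat_full {q i : ℕ} (hF : Fintype.card F = q) (hi : 1 ≤ i) :
    ∃ M : Matrix (Fin i) (Fin i) F, orderOf M = q ^ i - 1 ∧ ∀ d, M.det ^ d = 1 → q - 1 ∣ d := by
  obtain ⟨p, hp⟩ := CharP.exists F
  obtain ⟨k, hpp, hk⟩ := FiniteField.card F p
  have := Fact.mk hpp
  have : NeZero i := ⟨by omega⟩
  have : Finite (FiniteField.Extension F p i) := inferInstance
  have hcK : Nat.card (FiniteField.Extension F p i) = q ^ i := by
    rw [FiniteField.natCard_extension, Nat.card_eq_fintype_card, hF]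
  have hcard : Nat.card (FiniteField.Extension F p i)ˣ = q ^ i - 1 := by
    rw [Nat.card_units, hcK]
  obtain ⟨z, hz⟩ := IsCyclic.exists_ofOrder_eq_natCard (α := (FiniteField.Extension F p i)ˣ)
  have hfr : Module.finrank F (FiniteField.Extension F p i) = i := FiniteField.finrank_extension F p i
  let b : Module.Basis (Fin i) F (FiniteField.Extension F p i) := Module.finBasisOfFinrankEq _ _ hfr
  have hq2 : 2 ≤ q := by rw [← hF]; exact Fintype.one_lt_card
  refine ⟨Algebra.leftMulMatrix b (z : FiniteField.Extension F p i), ?_, ?_⟩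
  · have h2 := orderOf_injective (Algebra.leftMulMatrix b).toRingHom.toMonoidHom
      (Algebra.leftMulMatrix_injective b) (z : FiniteField.Extension F p i)
    exact h2.trans (by rw [orderOf_units, hz, hcard])
  · intro d hd
    rw [← Algebra.norm_eq_matrix_det b, norm_pow_eq z rfl, hz, hcard, hcK, Nat.card_eq_fintype_card, hF] at hd
    have h1 : q - 1 ∣ q ^ i - 1 := by
      have := Nat.sub_dvd_pow_sub_pow q 1 i
      rwa [one_pow] at this
    obtain ⟨s, hs⟩ := h1
    have hs0 : 0 < s := by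
      rcases Nat.eq_zero_or_pos s with h0 | h0
      · rw [h0, mul_zero] at hs
        have : q ^ 1 ≤ q ^ i := Nat.pow_le_pow_right (by omega) hi
        rw [pow_one] at this
        omega
      · exact h0
    rw [hs, Nat.mul_div_cancel_left _ (by omega), mul_comm (q - 1) s] at hd
    exact Nat.dvd_of_mul_dvd_mul_left hs0 hd

theorem hEltOf {q : ℕ} (hF : Fintype.card F = q ^ 2) {V : Type*} [AddCommGroup V] [Module F V]
    [FiniteDimensional F V] (σ : F →+* F) (hσ : ∀ a, σ a = a ^ q) (B : V →ₛₗ[σ] V →ₗ[F] F) (hS : B.IsSymm)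
    (hB : B.Nondegenerate) (g : Module.End F V) (hg : ∀ x y, B (g x) (g y) = B x y) {n N : ℕ}
    (hn : Module.finrank F V = n) (ho : orderOf g = N) :
    ∃ M : Matrix (Fin n) (Fin n) F, Mᵀ * M.map (fun x => x ^ q) = 1 ∧ orderOf M = N ∧ M.det = LinearMap.det g := by
  subst hn
  have hσ2 : ∀ a : F, σ (σ a) = a := by
    intro a
    rw [hσ, hσ, ← pow_mul, ← sq, ← hF, FiniteField.pow_card]
  have hσ1 : σ ≠ RingHom.id F := by
    intro h
    obtain ⟨z, hz⟩ := IsCyclic.exists_ofOrder_eq_natCard (α := Fˣ)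
    have h1 : z ^ q = z := by
      apply Units.ext
      rw [Units.val_pow_eq_pow_val, ← hσ, h]
      rfl
    have hq : 2 ≤ q := by
      have h1 : 1 < Fintype.card F := Fintype.one_lt_card
      rw [hF] at h1
      nlinarith
    have h2 : z ^ (q - 1) = 1 := by
      have h3 : z ^ (q - 1) * z = z := by
        rw [← pow_succ, show q - 1 + 1 = q by omega, h1]
      exact mul_eq_right.1 h3
    have h3 := orderOf_dvd_of_pow_eq_one h2
    rw [hz, Nat.card_units, Nat.card_eq_fintype_card, hF] at h3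
    have h4 := Nat.le_of_dvd (by omega) h3
    have h5 : q < q ^ 2 := by nlinarith
    omega
  obtain ⟨b, hb⟩ := S0755.result σ hσ1 hσ2 B hS hB
  refine ⟨LinearMap.toMatrixAlgEquiv b g, ?_, ?_, ?_⟩
  · ext i j
    rw [Matrix.mul_apply]
    have h1 : ∀ j, g (b j) = ∑ k, (LinearMap.toMatrixAlgEquiv b g) k j • b k := by
      intro j
      conv_lhs => rw [← b.sum_repr (g (b j))]
      simp only [LinearMap.toMatrixAlgEquiv_apply]
    have h2 := hg (b j) (b i)
    rw [h1 j, h1 i, hb] at h2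
    simp only [map_sum, LinearMap.sum_apply, map_smul, LinearMap.smul_apply, LinearMap.map_smulₛₗ, hb, smul_eq_mul,
      mul_ite, mul_one, mul_zero, Finset.sum_ite_eq', Finset.mem_univ, if_true] at h2
    rw [Matrix.one_apply]
    simp only [Matrix.transpose_apply, Matrix.map_apply]
    have h3 : (if i = j then (1 : F) else 0) = if j = i then 1 else 0 := by simp only [eq_comm]
    rw [h3, ← h2]
    refine Finset.sum_congr rfl fun k _ => ?_
    rw [hσ, mul_comm]
  · rw [← ho]
    exact orderOf_injective (LinearMap.toMatrixAlgEquiv b).toRingEquiv.toRingHom.toMonoidHom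
      (LinearMap.toMatrixAlgEquiv b).injective g
  · exact LinearMap.det_toMatrix b g

theorem hOdd {q i : ℕ} (hF : Fintype.card F = q ^ 2) (hi : Odd i) :
    ∃ M : Matrix (Fin i) (Fin i) F, Mᵀ * M.map (fun x => x ^ q) = 1 ∧ orderOf M = q ^ i + 1 ∧
      ∀ d, M.det ^ d = 1 → q + 1 ∣ d := by
  obtain ⟨p, j, hp, hch, hq⟩ := exists_pow_char hF
  have := Fact.mk hp
  have hi0 : 0 < i := hi.pos
  have : NeZero i := ⟨by omega⟩
  obtain ⟨σ, hσ⟩ := ClassicalGeometry.GUBasic.exists_powHom hF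
  let K := FiniteField.Extension F p i
  have hfin : Finite K := inferInstance
  have hchK : CharP K p := charP_of_injective_algebraMap (algebraMap F K).injective p
  let τ : K →+* K := iterateFrobenius K p (j * i)
  have hτ : ∀ y, τ y = y ^ (q ^ i) := by
    intro y
    change iterateFrobenius K p (j * i) y = _
    rw [iterateFrobenius_def, hq, ← pow_mul]
  have hcardK : Nat.card K = q ^ (2 * i) := by
    rw [FiniteField.natCard_extension, Nat.card_eq_fintype_card, hF, ← pow_mul]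
  have hττ : ∀ y, τ (τ y) = y := by
    intro y
    have : Fintype K := Fintype.ofFinite K
    rw [hτ, hτ, ← pow_mul, ← pow_add, show i + i = 2 * i by ring, ← hcardK, Nat.card_eq_fintype_card]
    exact FiniteField.pow_card y
  have hτF : ∀ a, τ (algebraMap F K a) = algebraMap F K (σ a) := by
    intro a
    rw [hτ, hσ, ← map_pow]
    congr 1
    obtain ⟨m, hm⟩ := hi
    rw [hm, pow_succ, pow_mul, pow_mul, ← hF, FiniteField.pow_card_pow]
  let B : K →ₛₗ[σ] K →ₗ[F] F := LinearMap.mk₂'ₛₗ σ (RingHom.id F) (fun x y => Algebra.trace F K (τ x * y))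
    (by intro x x' y; rw [map_add, add_mul, map_add])
    (by intro c x y; rw [Algebra.smul_def, map_mul τ, hτF, mul_assoc, ← Algebra.smul_def, map_smul])
    (by intro x y y'; rw [mul_add, map_add])
    (by intro c x y; rw [mul_smul_comm, map_smul]; rfl)
  have hB : ∀ x y, B x y = Algebra.trace F K (τ x * y) := fun x y => rfl
  have hsymm : ∀ x y, σ (B x y) = B y x := by
    intro x y
    rw [hB, hB, trace_comm σ τ hτ hτF, map_mul, hττ, mul_comm]
  have hsep : ∀ x, (∀ y, B x y = 0) → x = 0 := by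
    intro x hx
    have h1 := trace_nondeg (z := τ x) fun y => hx y
    exact τ.injective (by rw [h1, map_zero])
  have hN' : q ^ i + 1 ∣ Nat.card K - 1 := by
    rw [hcardK, mul_comm, pow_mul, ← one_pow 2, Nat.sq_sub_sq, one_pow]
    exact Dvd.dvd.mul_right dvd_rfl _
  obtain ⟨z, hz⟩ := exists_orderOf hN'
  have hz1 : τ (z : K) * (z : K) = 1 := by
    rw [hτ, ← pow_succ, ← Units.val_pow_eq_pow_val, orderOf_dvd_iff_pow_eq_one.1 (by rw [hz])]
    rfl
  obtain ⟨M, h1, h2, h3⟩ := hEltOf hF σ hσ B ⟨fun x y => hsymm x y⟩ ⟨fun x hx => hsep x hx, fun y hy => hsep y fun x => by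
    rw [← hsymm, hy x, map_zero]⟩
    (Algebra.lmul F K (z : K)) (by
      intro x y
      rw [hB, hB]
      simp only [Algebra.coe_lmul_eq_mul, LinearMap.mul_apply_apply, map_mul]
      congr 1
      calc τ (z : K) * τ x * ((z : K) * y) = (τ (z : K) * (z : K)) * (τ x * y) := by ring
        _ = τ x * y := by rw [hz1, one_mul]) (FiniteField.finrank_extension F p i) (N := q ^ i + 1) (by
      rw [← hz, ← orderOf_units]
      exact orderOf_injective (Algebra.lmul F K).toRingHom.toMonoidHom Algebra.lmul_injective (z : K))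
  refine ⟨M, h1, h2, fun d hd => ?_⟩
  rw [h3, ← Algebra.norm_apply] at hd
  have hq2 : 2 ≤ q := by
    have h1 : 1 < Fintype.card F := Fintype.one_lt_card
    rw [hF] at h1
    nlinarith
  obtain ⟨s, hs⟩ : q - 1 ∣ q ^ i - 1 := by
    have := Nat.sub_dvd_pow_sub_pow q 1 i
    rwa [one_pow] at this
  obtain ⟨r, hr⟩ : q + 1 ∣ q ^ i + 1 := by
    have := Odd.nat_add_dvd_pow_add_pow q 1 hi
    rwa [one_pow] at this
  have hqi : 2 ≤ q ^ i := by
    calc 2 ≤ q := hq2
      _ = q ^ 1 := (pow_one q).symm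
      _ ≤ q ^ i := Nat.pow_le_pow_right (by omega) hi0
  have hr0 : 0 < r := by
    rcases Nat.eq_zero_or_pos r with h0 | h0
    · rw [h0, mul_zero] at hr
      omega
    · exact h0
  have hdiv : (Nat.card K - 1) / (Nat.card F - 1) = r * s := by
    rw [hcardK, Nat.card_eq_fintype_card, hF, mul_comm 2 i, pow_mul]
    have e1 : (q ^ i) ^ 2 - 1 = (q ^ i + 1) * (q ^ i - 1) := by rw [← one_pow 2, Nat.sq_sub_sq, one_pow]
    have e2 : q ^ 2 - 1 = (q + 1) * (q - 1) := by rw [← one_pow 2, Nat.sq_sub_sq, one_pow]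
    rw [e1, e2, hs, hr]
    apply Nat.div_eq_of_eq_mul_left
    · exact Nat.mul_pos (by omega) (by omega)
    · ring
  rw [norm_pow_eq z hdiv, hz, hr, mul_comm (q + 1) r, mul_assoc r s d] at hd
  have hd2 : q + 1 ∣ s * d := Nat.dvd_of_mul_dvd_mul_left hr0 hd
  refine Nat.Coprime.dvd_of_dvd_mul_left ?_ hd2
  -- `s ≡ 1`
  have h5 : (s : ℤ) ≡ 1 [ZMOD (q + 1 : ℕ)] := by
    have h6 : s = ∑ l ∈ Finset.range i, q ^ l := by
      have h7 := Nat.geomSum_eq hq2 i
      rw [h7, hs, Nat.mul_div_cancel_left _ (by omega)]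
    have h8 : ((q : ℤ)) ≡ -1 [ZMOD ((q + 1 : ℕ) : ℤ)] := by
      rw [Int.modEq_iff_dvd]
      refine ⟨-1, ?_⟩
      push_cast
      ring
    rw [h6]
    push_cast
    have h9 : (∑ l ∈ Finset.range i, (q : ℤ) ^ l) ≡ ∑ l ∈ Finset.range i, (-1 : ℤ) ^ l [ZMOD ((q + 1 : ℕ) : ℤ)] := by
      apply Int.ModEq.sum
      intro l _
      exact h8.pow l
    have h10 : ∑ l ∈ Finset.range i, (-1 : ℤ) ^ l = 1 := by
      rw [neg_one_geom_sum, if_neg (by rwa [Nat.not_even_iff_odd])]
    rw [h10] at h9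
    exact_mod_cast h9
  have h6 : IsCoprime ((q + 1 : ℕ) : ℤ) (s : ℤ) := by
    obtain ⟨c, hc⟩ := h5.symm.dvd
    exact ⟨-c, 1, by linarith⟩
  exact Nat.isCoprime_iff_coprime.1 h6

theorem hEven {q m : ℕ} (hF : Fintype.card F = q ^ 2) (hm : 1 ≤ m) :
    ∃ M : Matrix (Fin (2 * m)) (Fin (2 * m)) F, Mᵀ * M.map (fun x => x ^ q) = 1 ∧ orderOf M = q ^ (2 * m) - 1 ∧
      ∀ d, M.det ^ d = 1 → q + 1 ∣ d := by
  obtain ⟨p, j, hp, hch, hq⟩ := exists_pow_char hF
  have := Fact.mk hp
  have : NeZero m := ⟨by omega⟩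
  obtain ⟨σ, hσ⟩ := ClassicalGeometry.GUBasic.exists_powHom hF
  have hσσ : ∀ a, σ (σ a) = a := by
    intro a
    rw [hσ, hσ, ← pow_mul, ← sq, ← hF, FiniteField.pow_card]
  let K := FiniteField.Extension F p m
  have hfin : Finite K := inferInstance
  have hchK : CharP K p := charP_of_injective_algebraMap (algebraMap F K).injective p
  let θ : K →+* K := iterateFrobenius K p j
  have hθ : ∀ y, θ y = y ^ q := by
    intro y
    change iterateFrobenius K p j y = _
    rw [iterateFrobenius_def, hq]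
  have hcardK : Nat.card K = q ^ (2 * m) := by
    rw [FiniteField.natCard_extension, Nat.card_eq_fintype_card, hF, ← pow_mul]
  have hθF : ∀ a, θ (algebraMap F K a) = algebraMap F K (σ a) := by
    intro a
    rw [hθ, hσ, ← map_pow]
  have hθs : Function.Surjective θ := Finite.surjective_of_injective θ.injective
  let β : K → K → F := fun a d => Algebra.trace F K (θ a * d)
  have hβ : ∀ a d, β a d = Algebra.trace F K (θ a * d) := fun a d => rfl
  have β1 : ∀ a a' d, β (a + a') d = β a d + β a' d := by intro a a' d; simp only [hβ, map_add, add_mul]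
  have β2 : ∀ a d d', β a (d + d') = β a d + β a d' := by intro a d d'; simp only [hβ, map_add, mul_add]
  have β3 : ∀ (c : F) a d, β (c • a) d = σ c * β a d := by
    intro c a d
    simp only [hβ]
    rw [Algebra.smul_def, map_mul θ, hθF, mul_assoc, ← Algebra.smul_def, map_smul, smul_eq_mul]
  have β4 : ∀ (c : F) a d, β a (c • d) = c * β a d := by
    intro c a d
    simp only [hβ]
    rw [mul_smul_comm, map_smul, smul_eq_mul]
  let B : K × K →ₛₗ[σ] K × K →ₗ[F] F := LinearMap.mk₂'ₛₗ σ (RingHom.id F)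
    (fun x y => β x.1 y.2 + σ (β y.1 x.2))
    (by
      intro x x' y
      simp only [Prod.fst_add, Prod.snd_add, β1, β2, map_add]
      ring)
    (by
      intro c x y
      simp only [Prod.smul_fst, Prod.smul_snd, β3, β4, map_mul, smul_eq_mul]
      ring)
    (by
      intro x y y'
      simp only [Prod.fst_add, Prod.snd_add, β1, β2, map_add]
      ring)
    (by
      intro c x y
      simp only [Prod.smul_fst, Prod.smul_snd, β3, β4, map_mul, hσσ, smul_eq_mul, RingHom.id_apply]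
      ring)
  have hB : ∀ x y, B x y = β x.1 y.2 + σ (β y.1 x.2) := fun x y => rfl
  have hsymm : ∀ x y, σ (B x y) = B y x := by
    intro x y
    rw [hB, hB, map_add, hσσ, add_comm]
  have hsep : ∀ x, (∀ y, B x y = 0) → x = 0 := by
    intro x hx
    have h1 : x.1 = 0 := by
      have h2 := trace_nondeg (F := F) (z := θ x.1) fun y => by
        have h3 := hx (0, y)
        rw [hB] at h3
        simpa [hβ] using h3
      exact θ.injective (by rw [h2, map_zero])
    have h2 : x.2 = 0 := by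
      refine trace_nondeg (F := F) fun y => ?_
      obtain ⟨w, rfl⟩ := hθs y
      have h3 := hx (w, 0)
      rw [hB] at h3
      have h4 : σ (β w x.2) = 0 := by simpa [hβ] using h3
      have h5 : β w x.2 = 0 := σ.injective (by rw [h4, map_zero])
      rw [mul_comm]
      exact h5
    exact Prod.ext h1 h2
  obtain ⟨z, hz⟩ := exists_orderOf (K := K) (N := Nat.card K - 1) dvd_rfl
  let f : K × K →* Module.End F (K × K) :=
    { toFun := fun t => LinearMap.prodMap (Algebra.lmul F K t.1) (Algebra.lmul F K t.2)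
      map_one' := by ext <;> simp
      map_mul' := fun s t => by ext <;> simp [mul_assoc] }
  have hf : Function.Injective f := by
    intro s t hst
    have h1 := LinearMap.congr_fun hst (1, 1)
    have h2 : (s.1 * 1, s.2 * 1) = (t.1 * 1, t.2 * 1) := h1
    rw [mul_one, mul_one, mul_one, mul_one] at h2
    exact Prod.ext (congrArg Prod.fst h2) (congrArg Prod.snd h2)
  obtain ⟨M, h1, h2, h3⟩ := hEltOf hF σ hσ B ⟨fun x y => hsymm x y⟩ ⟨fun x hx => hsep x hx, fun y hy => hsep y fun x => by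
    rw [← hsymm, hy x, map_zero]⟩
    (f ((z : K), θ ((z⁻¹ : Kˣ) : K))) (by
      have key : ∀ a d, β ((z : K) * a) (θ ((z⁻¹ : Kˣ) : K) * d) = β a d := by
        intro a d
        simp only [hβ]
        congr 1
        have : θ (z : K) * θ ((z⁻¹ : Kˣ) : K) = 1 := by rw [← map_mul, Units.mul_inv, map_one]
        rw [map_mul]
        calc θ (z : K) * θ a * (θ ((z⁻¹ : Kˣ) : K) * d) = (θ (z : K) * θ ((z⁻¹ : Kˣ) : K)) * (θ a * d) := by ring
          _ = θ a * d := by rw [this, one_mul]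
      intro x y
      rw [hB, hB]
      change β ((z : K) * x.1) (θ ((z⁻¹ : Kˣ) : K) * y.2) + σ (β ((z : K) * y.1) (θ ((z⁻¹ : Kˣ) : K) * x.2)) = _
      rw [key, key]) (n := 2 * m) (by
      rw [Module.finrank_prod, FiniteField.finrank_extension F p m]
      ring) (N := q ^ (2 * m) - 1) (by
      rw [orderOf_injective f hf, Prod.orderOf, ← hcardK, ← hz, ← orderOf_units]
      have h1 : orderOf (θ ((z⁻¹ : Kˣ) : K)) = orderOf (z : K) := by
        refine (orderOf_injective θ.toMonoidHom θ.injective _).trans ?_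
        rw [orderOf_units, orderOf_inv, ← orderOf_units]
      rw [h1]
      exact Nat.lcm_self _)
  refine ⟨M, h1, h2, fun d hd => ?_⟩
  have hdet : LinearMap.det (f ((z : K), θ ((z⁻¹ : Kˣ) : K))) =
      Algebra.norm F (z : K) * Algebra.norm F (θ ((z⁻¹ : Kˣ) : K)) := by
    change LinearMap.det (LinearMap.prodMap (Algebra.lmul F K (z : K)) (Algebra.lmul F K (θ ((z⁻¹ : Kˣ) : K)))) = _
    rw [LinearMap.det_prodMap]
    rfl
  have hq2 : 2 ≤ q := by
    have h1 : 1 < Fintype.card F := Fintype.one_lt_card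
    rw [hF] at h1
    nlinarith
  have hval : ∀ d : ℕ, M.det ^ d = 1 → Algebra.norm F (z : K) ^ ((q - 1) * d) = 1 := by
    intro d hd
    rw [h3, hdet, hθ, map_pow] at hd
    have h4 : Algebra.norm F (z : K) * Algebra.norm F ((z⁻¹ : Kˣ) : K) = 1 := by
      rw [← map_mul, Units.mul_inv, map_one]
    set a := Algebra.norm F (z : K) with ha
    set b := Algebra.norm F ((z⁻¹ : Kˣ) : K) with hb
    -- `(a b^q)^d = 1`, `ab = 1` : `b ^ ((q-1) d) = 1`
    have h5 : a * b ^ q = b ^ (q - 1) := by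
      have : b ^ q = b ^ (q - 1) * b := by rw [← pow_succ, Nat.sub_add_cancel (by omega)]
      rw [this, mul_comm (b ^ (q - 1)) b, ← mul_assoc, h4, one_mul]
    rw [h5, ← pow_mul] at hd
    calc a ^ ((q - 1) * d) = a ^ ((q - 1) * d) * b ^ ((q - 1) * d) := by rw [hd, mul_one]
      _ = 1 := by rw [← mul_pow, h4, one_pow]
  have h6 := hval d hd
  obtain ⟨s, hs⟩ : q ^ 2 - 1 ∣ q ^ (2 * m) - 1 := by
    have := Nat.sub_dvd_pow_sub_pow (q ^ 2) 1 m
    rwa [one_pow, ← pow_mul] at this
  have hq21 : 0 < q ^ 2 - 1 := by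
    have : 2 ^ 2 ≤ q ^ 2 := Nat.pow_le_pow_left hq2 2
    omega
  have hs0 : 0 < s := by
    rcases Nat.eq_zero_or_pos s with h0 | h0
    · rw [h0, mul_zero] at hs
      have : 2 ^ 1 ≤ q ^ (2 * m) := (Nat.pow_le_pow_left hq2 1).trans (Nat.pow_le_pow_right (by omega) (by omega))
      omega
    · exact h0
  rw [norm_pow_eq z (s := s) (by
    rw [hcardK, Nat.card_eq_fintype_card, hF, hs, Nat.mul_div_cancel_left _ hq21]), hz, hcardK, hs,
    mul_comm (q ^ 2 - 1) s] at h6
  have h7 := Nat.dvd_of_mul_dvd_mul_left hs0 h6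
  have e2 : q ^ 2 - 1 = (q - 1) * (q + 1) := by rw [← one_pow 2, Nat.sq_sub_sq, one_pow, mul_comm]
  rw [e2] at h7
  exact Nat.dvd_of_mul_dvd_mul_left (by omega) h7

/-- one torus of `GL`, `GU`, with the determinant of the largest order -/
theorem exists_UM_full {e : Bool} {q : ℕ} (hF : Fintype.card F = q ^ (cond e 0 1 + 1)) {k : ℕ} (hk : 1 ≤ k) :
    ∃ A : Matrix (Fin k) (Fin k) F, UM e q A ∧ orderOf A = AA e k q ∧ orderOf A.det = AA e 1 q := by
  have hq : 2 ≤ q := two_le_of_card hF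
  have main : ∃ A : Matrix (Fin k) (Fin k) F, UM e q A ∧ orderOf A = AA e k q ∧
      ∀ d, A.det ^ d = 1 → AA e 1 q ∣ d := by
    cases e with
    | true =>
      have hF' : Fintype.card F = q := by simpa using hF
      obtain ⟨A, hA, hd⟩ := exists_mat_full hF' hk
      refine ⟨A, (fun h => by cases h), by rw [hA]; simp [AA], fun d h => ?_⟩
      rw [AA_one]
      exact hd d h
    | false =>
      have hF' : Fintype.card F = q ^ 2 := by simpa using hF
      rcases Nat.even_or_odd k with he | ho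
      · obtain ⟨m, hm⟩ := he
        have hm' : k = 2 * m := by omega
        have h3 : AA false k q = q ^ k - 1 := by
          unfold AA
          have : k % 2 = 0 := by omega
          simp [this]
        subst hm'
        obtain ⟨A, h1, h2, h4⟩ := hEven hF' (m := m) (by omega)
        refine ⟨A, fun _ => h1, by rw [h2, h3], fun d h => ?_⟩
        rw [AA_one]
        exact h4 d h
      · have h3 : AA false k q = q ^ k + 1 := by
          unfold AA
          have : k % 2 = 1 := Nat.odd_iff.1 ho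
          simp [this]
        obtain ⟨A, h1, h2, h4⟩ := hOdd hF' ho
        refine ⟨A, fun _ => h1, by rw [h2, h3], fun d h => ?_⟩
        rw [AA_one]
        exact h4 d h
  obtain ⟨A, hA, hoA, hd⟩ := main
  have hpos := AA_pos' (e := e) hk hq
  have hA0 : A.det ≠ 0 := by
    intro h0
    have h1 : A.det ^ AA e k q = 1 := by
      rw [← hoA, ← Matrix.det_pow, pow_orderOf_eq_one, Matrix.det_one]
    rw [h0, zero_pow hpos.ne'] at h1
    exact zero_ne_one h1
  exact ⟨A, hA, hoA, Nat.dvd_antisymm (orderOf_dvd_of_pow_eq_one (det_AA hF hA hA0)) (hd _ (pow_orderOf_eq_one _))⟩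

/-- **Two blocks, no room**, general determinants. -/
theorem exists_two_topF {e : Bool} {n q : ℕ} {L : Type*} [Group L] (h : IsL L e n q F)
    (hF : Fintype.card F = q ^ (cond e 0 1 + 1)) (hn : 3 ≤ n) {k b N₁ N₂ : ℕ}
    (hkb : k + b = n) (hN₁ : 0 < N₁) (hN₂ : 0 < N₂)
    {A : Matrix (Fin k) (Fin k) F} (hA : UM e q A)
    (hoA : orderOf A = N₁) {B : Matrix (Fin b) (Fin b) F} (hB : UM e q B) (hoB : orderOf B = N₂)
    (hdAB : A.det * B.det = 1) :
    ∃ x : L, ∃ c, orderOf x * c = Nat.lcm N₁ N₂ ∧ c ∣ Nat.gcd n (AA e 1 q) := by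
  have hq : 2 ≤ q := two_le_of_card hF
  have hAN : A ^ N₁ = 1 := by rw [← hoA]; exact pow_orderOf_eq_one A
  have hBN : B ^ N₂ = 1 := by rw [← hoB]; exact pow_orderOf_eq_one B
  let σ : (Fin k ⊕ Fin b) ≃ Fin n := Fintype.equivFinOfCardEq (by simp; omega)
  let C : Matrix (Fin n) (Fin n) F := reindexAlgEquiv F F σ (fromBlocks A 0 0 B)
  have hCU : UM e q C := UM.reindex σ (UM.block (by omega) hA hB)
  have hCdet : C.det = 1 := by
    show (Matrix.reindex σ σ _).det = 1
    rw [Matrix.det_reindex_self, Matrix.det_fromBlocks_zero₂₁, hdAB]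
  have hCpow : ∀ j, C ^ j = reindexAlgEquiv F F σ (fromBlocks (A ^ j) 0 0 (B ^ j)) := by
    intro j
    show (reindexAlgEquiv F F σ _) ^ j = _
    rw [← map_pow, fromBlocks_pow']
  obtain ⟨x, hx1, hx2⟩ := IsL_exists h hF hn hCdet hCU
  have hlcm1 : x ^ Nat.lcm N₁ N₂ = 1 := by
    apply hx1
    obtain ⟨a, ha⟩ := Nat.dvd_lcm_left N₁ N₂
    obtain ⟨b', hb'⟩ := Nat.dvd_lcm_right N₁ N₂
    have h1 : A ^ Nat.lcm N₁ N₂ = 1 := by rw [ha, pow_mul, hAN, one_pow]
    have h2 : B ^ Nat.lcm N₁ N₂ = 1 := by rw [hb', pow_mul, hBN, one_pow]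
    rw [hCpow, h1, h2]
    simp
  have key : ∀ j, x ^ j = 1 → ∃ c : F, A ^ j = Matrix.diagonal (fun _ => c) ∧ B ^ j = Matrix.diagonal (fun _ => c) ∧
      c ^ n = 1 ∧ c ^ AA e 1 q = 1 := by
    intro j hj
    obtain ⟨c, hc, hcn, hcq⟩ := hx2 j hj
    rw [hCpow] at hc
    have hent : ∀ i i', (fromBlocks (A ^ j) 0 0 (B ^ j)) i i' = if i = i' then c else 0 := by
      intro i i'
      have h1 := congrFun (congrFun hc (σ i)) (σ i')
      rw [Matrix.diagonal_apply] at h1
      simp only [σ.injective.eq_iff] at h1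
      rw [← h1]
      simp [coe_reindexAlgEquiv]
    refine ⟨c, ?_, ?_, hcn, hcq⟩
    · ext i i'
      have := hent (Sum.inl i) (Sum.inl i')
      rw [Matrix.diagonal_apply]
      simpa using this
    · ext i i'
      have := hent (Sum.inr i) (Sum.inr i')
      rw [Matrix.diagonal_apply]
      simpa using this
  obtain ⟨c, hc⟩ := orderOf_dvd_of_pow_eq_one hlcm1
  have hlpos : 0 < Nat.lcm N₁ N₂ := Nat.lcm_pos hN₁ hN₂
  have hxpos : 0 < orderOf x := by
    rcases Nat.eq_zero_or_pos (orderOf x) with h0 | h0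
    · rw [h0, zero_mul] at hc
      omega
    · exact h0
  obtain ⟨z, hzA, hzB, hzn, hzq⟩ := key _ (pow_orderOf_eq_one x)
  have hd : ∀ d, z ^ d = 1 → Nat.lcm N₁ N₂ ∣ orderOf x * d := by
    intro d hzd
    apply Nat.lcm_dvd
    · rw [← hoA]
      apply orderOf_dvd_of_pow_eq_one
      rw [pow_mul, hzA, Matrix.diagonal_pow]
      have : (fun _ : Fin k => z) ^ d = 1 := by funext i; simpa using hzd
      rw [this]
      exact Matrix.diagonal_one
    · rw [← hoB]
      apply orderOf_dvd_of_pow_eq_one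
      rw [pow_mul, hzB, Matrix.diagonal_pow]
      have : (fun _ : Fin b => z) ^ d = 1 := by funext i; simpa using hzd
      rw [this]
      exact Matrix.diagonal_one
  refine ⟨x, c, hc.symm, ?_⟩
  have h1 : z ^ Nat.gcd n (AA e 1 q) = 1 := by
    rw [← orderOf_dvd_iff_pow_eq_one]
    exact Nat.dvd_gcd (orderOf_dvd_of_pow_eq_one hzn) (orderOf_dvd_of_pow_eq_one hzq)
  have h2 := hd _ h1
  rw [hc] at h2
  exact Nat.dvd_of_mul_dvd_mul_left hxpos h2

/-- lifting of units -/
theorem exists_coprime_lift {n m j : ℕ} (hm : m ≠ 0) (h : n ∣ m) (hj : Nat.Coprime j n) :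
    ∃ l : ℕ, Nat.Coprime l m ∧ l % n = j % n := by
  have : NeZero m := ⟨hm⟩
  obtain ⟨u, hu⟩ := ZMod.unitsMap_surjective h (ZMod.unitOfCoprime j hj)
  refine ⟨(u : ZMod m).val, ZMod.val_coe_unit_coprime u, ?_⟩
  have h1 := congrArg (fun x : (ZMod n)ˣ => (x : ZMod n)) hu
  simp only [ZMod.unitsMap_val, ZMod.coe_unitOfCoprime] at h1
  have h2 : (((u : ZMod m).val : ℕ) : ZMod n) = (j : ZMod n) := by
    rw [← h1, ZMod.natCast_val]
  exact (ZMod.natCast_eq_natCast_iff' _ _ _).1 h2

/-- **Two tori, no room.** -/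
theorem torTopF' {p f : ℕ} (hp : p.Prime) [CharP F p] {e : Bool} {n q : ℕ} {L : Type*} [Group L] (hqf : q = p ^ f)
    (h : IsL L e n q F)
    (hF : Fintype.card F = q ^ (cond e 0 1 + 1)) (hn : 3 ≤ n) {k b : ℕ}
    (hk : 1 ≤ k) (hb : 1 ≤ b) (hkb : k + b = n) :
    ∃ x : L, ∃ c, orderOf x * c = Nat.lcm (AA e k q) (AA e b q) ∧ c ∣ Nat.gcd n (AA e 1 q) := by
  have hq : 2 ≤ q := two_le_of_card hF
  obtain ⟨A, hA, hoA, hdA⟩ := exists_UM_full (F := F) (e := e) hF hk
  obtain ⟨B, hB, hoB, hdB⟩ := exists_UM_full (F := F) (e := e) hF hb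
  have hpos1 := AA_pos' (e := e) (k := 1) le_rfl hq
  have hposb := AA_pos' (e := e) hb hq
  have : NeZero (AA e 1 q) := ⟨hpos1.ne'⟩
  have hprim : IsPrimitiveRoot B.det (AA e 1 q) := by
    rw [← hdB]
    exact IsPrimitiveRoot.orderOf _
  have hinv : orderOf (A.det)⁻¹ = AA e 1 q := by
    rw [← hdA]
    exact orderOf_eq_orderOf_iff.2 fun n => by rw [inv_pow, inv_eq_one]
  obtain ⟨j, -, hj⟩ := hprim.eq_pow_of_pow_eq_one (ξ := (A.det)⁻¹) (by rw [← hinv]; exact pow_orderOf_eq_one _)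
  have hjc : Nat.Coprime j (AA e 1 q) := by
    have h1 := hinv
    rw [← hj] at h1
    have h2 : IsPrimitiveRoot (B.det ^ j) (AA e 1 q) := by
      rw [← h1]
      exact IsPrimitiveRoot.orderOf _
    exact (hprim.pow_iff_coprime hpos1 j).1 h2
  obtain ⟨l, hl, hlj⟩ := exists_coprime_lift (n := AA e 1 q) (m := AA e b q) hposb.ne' (AA_one_dvd (by omega)) hjc
  refine exists_two_topF h hF hn hkb (AA_pos' hk hq) hposb hA hoA (B := B ^ l) (UM.pow hp hqf hB l) ?_ ?_
  · rw [Nat.Coprime.orderOf_pow (by rw [hoB]; exact hl.symm), hoB]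
  · have h1 : B.det ^ l = B.det ^ j := by
      rw [← pow_mod_orderOf, ← pow_mod_orderOf B.det j, hdB, hlj]
    rw [Matrix.det_pow, h1, hj]
    apply mul_inv_cancel₀
    intro h0
    rw [h0, _root_.inv_zero] at hj
    have h2 : orderOf (0 : F) = AA e 1 q := by rw [← hdA, h0]
    have h3 : (0 : F) ^ AA e 1 q = 1 := by rw [← h2]; exact pow_orderOf_eq_one _
    rw [zero_pow hpos1.ne'] at h3
    exact zero_ne_one h3

end

/-- **Two tori, no room.** -/
theorem torTopF {t : Fam} {p f n : ℕ} {e : Bool} {X : Type u} [Group X] (hp : p.Prime) (h : Fam.Is p f X t)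
    (ht : IsA t n e) (hn : 3 ≤ n) {k b : ℕ} (hk : 1 ≤ k) (hb : 1 ≤ b) (hkb : k + b = n) :
    ∃ x : X, ∃ c, orderOf x * c = Nat.lcm (AA e k (p ^ f)) (AA e b (p ^ f)) ∧
      c ∣ Nat.gcd n (AA e 1 (p ^ f)) := by
  cases t with
  | psl n' =>
    obtain ⟨rfl, rfl⟩ := ht
    obtain ⟨-, -, F, _, _, hch, hF, E⟩ := h
    exact torTopF' (F := F) (e := true) hp rfl (show IsL X true n' (p ^ f) F from E) (by simpa using hF) hn hk hb hkb
  | psu n' =>
    obtain ⟨rfl, rfl⟩ := ht
    obtain ⟨-, -, F, _, _, hch, hF, E⟩ := h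
    exact torTopF' (F := F) (e := false) hp rfl (show IsL X false n' (p ^ f) F from E) (by simpa using hF) hn hk hb hkb
  | _ => exact ht.elim

end Cfsg.Agent.R2.Spec.NA
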