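import Cfsg.Agent.R2.Spec.E.Duel
import Cfsg.Agent.R2.Spec.NA.TorTop2

/-!
# S3435, packet NA-GLUE (helper27): the divisibilities for `S = L_m(u)`, `U_m(u)`

`duel_A` : from `Duel t p f i j t' v f' i' k w H S`, `t' = psl m / psu m`, `k` not isolated: with `A = AA e · (v ^ f')`,
`N = ttor t (p ^ f) j`, `d' = gcd m (A 1)`:
* `k + 2 ≤ m`, `3 ≤ k`, `A k ∣ N`;
* `lcm (A k) (A b) ∣ N` for `k + b + 2 ≤ m`; `∣ d' * N` for `k + b + 1 ≤ m`;
* `lcm (A k) (A (m - k)) ∣ d' * N`.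
-/

set_option autoImplicit false

namespace Cfsg.Agent.R2.Spec.NA

open Cfsg Cfsg.Agent.H426.LieFam Cfsg.Agent.R2.Spec Cfsg.Agent.R2.Spec.P1 Cfsg.Agent.R2.Spec.X5
open Cfsg.Agent.H403 Cfsg.Agent.H403.NumTop Cfsg.Agent.R2.Spec.E

universe u

/-- the divisibilities -/
structure DvA (e : Bool) (m k u N : ℕ) : Prop where
  k3 : 3 ≤ k
  km : k + 2 ≤ m
  one : AA e k u ∣ N
  two : ∀ b : ℕ, 1 ≤ b → k + b + 2 ≤ m → Nat.lcm (AA e k u) (AA e b u) ∣ N
  two' : ∀ b : ℕ, 1 ≤ b → k + b + 1 ≤ m → Nat.lcm (AA e k u) (AA e b u) ∣ Nat.gcd m (AA e 1 u) * N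
  top : Nat.lcm (AA e k u) (AA e (m - k) u) ∣ Nat.gcd m (AA e 1 u) * N

theorem cls_A {t : Fam} {n : ℕ} {e : Bool} (ht : IsA t n e) (q r : ℕ) :
    cls t q r = orderOf ((xv e q : ℤ) : ZMod r) := by
  cases t with
  | psl n' => obtain ⟨-, rfl⟩ := ht; rfl
  | psu n' => obtain ⟨-, rfl⟩ := ht; rfl
  | _ => exact ht.elim

theorem mem_A {t : Fam} {n : ℕ} {e : Bool} (ht : IsA t n e) (i : ℕ) : mem t i ↔ i ≤ n := by
  cases t with
  | psl n' => obtain ⟨rfl, -⟩ := ht; exact Iff.rfl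
  | psu n' => obtain ⟨rfl, -⟩ := ht; exact Iff.rfl
  | _ => exact ht.elim

theorem top_A {t : Fam} {n : ℕ} {e : Bool} (ht : IsA t n e) (i : ℕ) :
    P1.top t i ↔ 3 ≤ i ∧ (i = n ∨ i + 1 = n) := by
  cases t with
  | psl n' => obtain ⟨rfl, -⟩ := ht; exact Iff.rfl
  | psu n' => obtain ⟨rfl, -⟩ := ht; exact Iff.rfl
  | _ => exact ht.elim

/-- **The divisibilities** from the structure of the orders divisible by `w`. -/
theorem dvA_of {t' : Fam} {v f' k w N m : ℕ} {e : Bool} {S : Type u} [Group S] (hv : v.Prime) (hS : Fam.Is v f' S t')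
    (ht : IsA t' m e) (hw : w.Prime) (hc : cls t' (v ^ f') w = k) (hk : 3 ≤ k) (hm : mem t' k) (hk' : ¬ P1.top t' k)
    (ho : ∀ x : S, w ∣ orderOf x → orderOf x ∣ N) : DvA e m k (v ^ f') N := by
  have hu : 1 ≤ v ^ f' := Nat.pow_pos hv.pos
  rw [mem_A ht] at hm
  rw [top_A ht] at hk'
  have hkm : k + 2 ≤ m := by omega
  rw [cls_A ht] at hc
  have h1 : w ∣ AA e k (v ^ f') := by
    rw [dvd_AA_iff hu, ← hc]
    exact pow_orderOf_eq_one _
  have h2 : ¬ w ∣ AA e 1 (v ^ f') := by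
    rw [dvd_AA_iff hu, ← orderOf_dvd_iff_pow_eq_one, hc]
    intro h
    have := Nat.le_of_dvd (by omega) h
    omega
  have key : ∀ (x : S) (c b : ℕ), orderOf x * c = Nat.lcm (AA e k (v ^ f')) (AA e b (v ^ f')) →
      c ∣ Nat.gcd m (AA e 1 (v ^ f')) → Nat.lcm (AA e k (v ^ f')) (AA e b (v ^ f')) ∣ c * N := by
    intro x c b hx hcc
    have h3 : w ∣ orderOf x * c := by
      rw [hx]
      exact h1.trans (Nat.dvd_lcm_left _ _)
    rcases hw.dvd_mul.1 h3 with h4 | h4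
    · rw [← hx, mul_comm]
      exact Nat.mul_dvd_mul_left c (ho x h4)
    · exact (h2 ((h4.trans hcc).trans (Nat.gcd_dvd_right _ _))).elim
  refine ⟨hk, hkm, ?_, ?_, ?_, ?_⟩
  · obtain ⟨x, c, hx, -, hc1⟩ := torL_one hS ht (by omega) (k := k) (by omega) (by omega)
    have := hc1 hkm
    rw [this, mul_one] at hx
    rw [← hx]
    exact ho x (by rw [hx]; exact h1)
  · intro b hb hkb
    obtain ⟨x, c, hx, hcc, hc1⟩ := torL hS ht (by omega) (k := k) (b := b) (by omega) hb (by omega)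
    have h5 := key x c b hx hcc
    rwa [hc1 hkb, one_mul] at h5
  · intro b hb hkb
    obtain ⟨x, c, hx, hcc, -⟩ := torL hS ht (by omega) (k := k) (b := b) (by omega) hb (by omega)
    exact (key x c b hx hcc).trans (Nat.mul_dvd_mul_right hcc N)
  · obtain ⟨x, c, hx, hcc⟩ := torTopF hv hS ht (by omega) (k := k) (b := m - k) (by omega) (by omega) (by omega)
    exact (key x c _ hx hcc).trans (Nat.mul_dvd_mul_right hcc N)

/-- **NA-GLUE** -/
theorem duel_A {t : Fam} {p f i j : ℕ} {t' : Fam} {v f' i' k w H m : ℕ} {e : Bool} {S : Type u} [Group S]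
    (D : Duel t p f i j t' v f' i' k w H S) (ht : IsA t' m e) (hk : ¬ P1.top t' k) :
    DvA e m k (v ^ f') (ttor t (p ^ f) j) :=
  dvA_of D.v_prime D.is ht D.w_prime D.clsw' D.j'3 D.memj' hk D.ordw

end Cfsg.Agent.R2.Spec.NA
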