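import Cfsg.Agent.H403.NumTop

/-!
# S3435, packet NON-A (helper3): the numbers `|y^n - 1|`, `|y^n - 1| / |y - 1|`, `y = ± u`

* `AA e n u = |y^n - 1|` (`H403.NumTop`), `YY e n u = |y^n - 1| / |y - 1|`, `Yz e n u = 1 + y + ... + y^(n-1)`;
* bounds; `gcd_AA`.
-/

set_option autoImplicit false

namespace Cfsg.Agent.R2.Spec.NA

open Cfsg.Agent.H403.NumTop

/-- `|y^n - 1| / |y - 1|` -/
def YY (e : Bool) (n u : ℕ) : ℕ := AA e n u / AA e 1 u

/-- `1 + y + ... + y^(n-1)` -/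
def Yz (e : Bool) (n u : ℕ) : ℤ := ∑ i ∈ Finset.range n, (xv e u) ^ i

theorem AA_natAbs {e : Bool} {n u : ℕ} (hu : 1 ≤ u) : (xv e u ^ n - 1).natAbs = AA e n u := by
  rcases AA_eq (e := e) (i := n) hu with h | h
  · rw [← h, Int.natAbs_natCast]
  · have h1 : xv e u ^ n - 1 = -((AA e n u : ℕ) : ℤ) := by rw [h, neg_neg]
    rw [h1, Int.natAbs_neg, Int.natAbs_natCast]

theorem xv_natAbs {e : Bool} {u : ℕ} : (xv e u).natAbs = u := by
  unfold xv
  cases e <;> simp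

theorem Yz_mul {e : Bool} {n u : ℕ} : Yz e n u * (xv e u - 1) = xv e u ^ n - 1 := geom_sum_mul _ _

theorem AA_true {n u : ℕ} : AA true n u = u ^ n - 1 := by simp [AA]

theorem AA_false_even {n u : ℕ} (h : n % 2 = 0) : AA false n u = u ^ n - 1 := by simp [AA, h]

theorem AA_false_odd {n u : ℕ} (h : n % 2 = 1) : AA false n u = u ^ n + 1 := by simp [AA, h]

theorem AA_le {e : Bool} {n u : ℕ} : AA e n u ≤ u ^ n + 1 := by
  unfold AA; split_ifs <;> omega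

theorem le_AA {e : Bool} {n u : ℕ} : u ^ n ≤ AA e n u + 1 := by
  unfold AA; split_ifs <;> omega

theorem one_pow_le {n u : ℕ} (hu : 2 ≤ u) (hn : 1 ≤ n) : 2 ≤ u ^ n :=
  hu.trans (Nat.le_self_pow (by omega) u)

theorem AA_pos {e : Bool} {n u : ℕ} (hu : 2 ≤ u) (hn : 1 ≤ n) : 0 < AA e n u := by
  have h1 := one_pow_le hu hn
  have h2 := le_AA (e := e) (n := n) (u := u)
  omega

theorem AA_lo {e : Bool} {n u : ℕ} (hu : 2 ≤ u) (hn : 1 ≤ n) : u ^ n ≤ 2 * AA e n u := by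
  have h1 := one_pow_le hu hn
  have h2 := le_AA (e := e) (n := n) (u := u)
  omega

theorem AA_hi {e : Bool} {n u : ℕ} (hu : 2 ≤ u) : AA e n u ≤ 2 * u ^ n := by
  have h1 := Nat.one_le_pow n u (by omega)
  have h2 := AA_le (e := e) (n := n) (u := u)
  omega

theorem AA1_dvd {e : Bool} {n u : ℕ} (hu : 2 ≤ u) : AA e 1 u ∣ AA e n u := by
  rw [← AA_natAbs (show 1 ≤ u by omega), ← AA_natAbs (n := n) (show 1 ≤ u by omega), Int.natAbs_dvd_natAbs, pow_one]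
  exact Dvd.intro_left _ Yz_mul

theorem YY_mul {e : Bool} {n u : ℕ} (hu : 2 ≤ u) : YY e n u * AA e 1 u = AA e n u :=
  Nat.div_mul_cancel (AA1_dvd hu)

theorem Yz_natAbs {e : Bool} {n u : ℕ} (hu : 2 ≤ u) : (Yz e n u).natAbs = YY e n u := by
  have h1 : (Yz e n u).natAbs * AA e 1 u = YY e n u * AA e 1 u := by
    rw [YY_mul hu, ← AA_natAbs (show 1 ≤ u by omega), ← AA_natAbs (n := n) (show 1 ≤ u by omega), pow_one,
      ← Int.natAbs_mul, Yz_mul]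
  exact Nat.eq_of_mul_eq_mul_right (AA_pos hu le_rfl) h1

theorem YY_dvd {e : Bool} {n u : ℕ} (hu : 2 ≤ u) : YY e n u ∣ AA e n u := Dvd.intro _ (YY_mul hu)

theorem YY_pos {e : Bool} {n u : ℕ} (hu : 2 ≤ u) (hn : 1 ≤ n) : 0 < YY e n u := by
  have h1 := AA_pos (e := e) hu hn
  rw [← YY_mul hu] at h1
  exact Nat.pos_of_mul_pos_right h1

theorem YY_lo {e : Bool} {n u : ℕ} (hu : 2 ≤ u) (hn : 1 ≤ n) : u ^ (n - 1) ≤ 2 * YY e n u := by
  obtain ⟨j, rfl⟩ : ∃ j, n = j + 1 := ⟨n - 1, by omega⟩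
  rw [Nat.add_sub_cancel]
  have hA := AA_pos (e := e) hu (le_refl 1)
  refine Nat.le_of_mul_le_mul_right ?_ hA
  rw [mul_assoc, YY_mul hu]
  have hj := Nat.one_le_pow j u (by omega)
  obtain ⟨x, hx⟩ : ∃ x, x = u ^ j := ⟨_, rfl⟩
  have hp : u ^ (j + 1) = x * u := by rw [hx, pow_succ]
  rw [← hx] at hj ⊢
  cases e with
  | true =>
    rw [AA_true, AA_true, hp, pow_one]
    obtain ⟨r, rfl⟩ : ∃ r, u = r + 2 := ⟨u - 2, by omega⟩
    have e1 : r + 2 - 1 = r + 1 := by omega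
    have e2 : 2 * (x * (r + 2) - 1) = 2 * (x * (r + 2)) - 2 := by omega
    rw [e1, e2]
    have : x * (r + 1) + 2 ≤ 2 * (x * (r + 2)) := by nlinarith
    omega
  | false =>
    rcases Nat.mod_two_eq_zero_or_one (j + 1) with h | h
    · rw [AA_false_odd (n := 1) rfl, AA_false_even h, hp, pow_one]
      have hj1 : 1 ≤ j := by omega
      have hx2 : 2 ≤ x := by rw [hx]; exact one_pow_le hu hj1
      have e2 : 2 * (x * u - 1) = 2 * (x * u) - 2 := by omega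
      rw [e2]
      have : x * (u + 1) + 2 ≤ 2 * (x * u) := by nlinarith
      omega
    · rw [AA_false_odd (n := 1) rfl, AA_false_odd h, hp, pow_one]
      nlinarith

theorem YY_hi {e : Bool} {n u : ℕ} (hu : 2 ≤ u) (hn : 1 ≤ n) : YY e n u ≤ 2 * u ^ (n - 1) := by
  obtain ⟨j, rfl⟩ : ∃ j, n = j + 1 := ⟨n - 1, by omega⟩
  rw [Nat.add_sub_cancel]
  have hA := AA_pos (e := e) hu (le_refl 1)
  refine Nat.le_of_mul_le_mul_right ?_ hA
  rw [YY_mul hu]
  have hj := Nat.one_le_pow j u (by omega)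
  obtain ⟨x, hx⟩ : ∃ x, x = u ^ j := ⟨_, rfl⟩
  have hp : u ^ (j + 1) = x * u := by rw [hx, pow_succ]
  rw [← hx] at hj ⊢
  cases e with
  | true =>
    rw [AA_true, AA_true, hp, pow_one]
    obtain ⟨r, rfl⟩ : ∃ r, u = r + 2 := ⟨u - 2, by omega⟩
    have e1 : r + 2 - 1 = r + 1 := by omega
    rw [e1]
    have : x * (r + 2) ≤ 2 * x * (r + 1) + 1 := by nlinarith
    omega
  | false =>
    rw [AA_false_odd (n := 1) rfl, pow_one]
    have h1 := AA_le (e := false) (n := j + 1) (u := u)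
    rw [hp] at h1
    nlinarith

/-- the greatest common divisor -/
theorem gcd_AA {e : Bool} {k n u : ℕ} (hu : 2 ≤ u) : Nat.gcd (AA e k u) (AA e n u) ∣ AA e (Nat.gcd k n) u := by
  have h1 : 1 ≤ u := by omega
  rw [dvd_AA_iff h1]
  have hk := (dvd_AA_iff h1).1 (Nat.gcd_dvd_left (AA e k u) (AA e n u))
  have hn := (dvd_AA_iff h1).1 (Nat.gcd_dvd_right (AA e k u) (AA e n u))
  exact orderOf_dvd_iff_pow_eq_one.1 (Nat.dvd_gcd (orderOf_dvd_of_pow_eq_one hk) (orderOf_dvd_of_pow_eq_one hn))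

/-- a lower bound for the least common multiple -/
theorem lcm_lo {e : Bool} {k n X u : ℕ} (hu : 2 ≤ u) (hk : 1 ≤ k) (hX : X ∣ AA e n u) :
    AA e k u * X ≤ Nat.lcm (AA e k u) X * AA e (Nat.gcd k n) u := by
  rw [← Nat.gcd_mul_lcm (AA e k u) X, mul_comm]
  refine Nat.mul_le_mul_left _ (Nat.le_of_dvd (AA_pos hu (Nat.gcd_pos_of_pos_left _ hk)) ?_)
  exact (Nat.gcd_dvd_gcd_of_dvd_right _ hX).trans (gcd_AA hu)

/-- `u` is prime to `AA e n u` -/
theorem cop_u {e : Bool} {n u : ℕ} (hu : 2 ≤ u) (hn : 1 ≤ n) : Nat.Coprime u (AA e n u) := by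
  rw [Nat.coprime_iff_gcd_eq_one]
  have h0 : Nat.gcd u (AA e n u) ∣ u ^ n := (Nat.gcd_dvd_left _ _).trans (dvd_pow_self u (by omega))
  have h1 : Nat.gcd u (AA e n u) ∣ AA e n u := Nat.gcd_dvd_right _ _
  have hp := Nat.one_le_pow n u (by omega)
  have h2 : AA e n u = u ^ n - 1 ∨ AA e n u = u ^ n + 1 := by unfold AA; split_ifs <;> simp
  rcases h2 with h2 | h2
  · rw [h2] at h0 h1 ⊢
    have h3 := Nat.dvd_sub h0 h1
    rw [show u ^ n - (u ^ n - 1) = 1 by omega] at h3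
    exact Nat.dvd_one.1 h3
  · rw [h2] at h0 h1 ⊢
    have h3 := Nat.dvd_sub h1 h0
    rw [show u ^ n + 1 - u ^ n = 1 by omega] at h3
    exact Nat.dvd_one.1 h3

end Cfsg.Agent.R2.Spec.NA
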