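import Cfsg.Agent.R2.Spec.X5.TorL

/-!
# S3435, packets NON-A (helper17): the torus `k + b = n` of `PSL_n`, `PSU_n`

* `torTop` : `k + b = n`: an element `x` with `orderOf x * c = lcm (AA k / AA 1, AA b / AA 1)`, `c ∣ gcd (n, q ∓ 1)`.
-/

set_option autoImplicit false
set_option linter.unusedSectionVars false

namespace Cfsg.Agent.R2.Spec.NA

open Cfsg Cfsg.Agent.H426.LieFam Cfsg.Agent.R2.Spec Cfsg.Agent.R2.Spec.P1 Cfsg.Agent.R2.Spec.X5
open Cfsg.Agent.H403 Matrix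
open Cfsg.Agent.H403.NumTop

universe u

section

variable {F : Type*} [Field F] [Fintype F] {e : Bool} {n q : ℕ} {L : Type*} [Group L]

theorem UM.mul {ι : Type*} [Fintype ι] [DecidableEq ι] {p k : ℕ} (hp : p.Prime) [CharP F p] (hq : q = p ^ k)
    {A B : Matrix ι ι F} (hA : UM e q A) (hB : UM e q B) : UM e q (A * B) := by
  intro he
  have h1 := hA he
  have h2 := hB he
  haveI := Fact.mk hp
  have h3 : (A * B).map (fun x => x ^ q) = A.map (fun x => x ^ q) * B.map (fun x => x ^ q) := by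
    subst hq
    have h4 := Matrix.map_mul (L := A) (M := B) (f := iterateFrobenius F p k)
    have h5 : (fun x : F => x ^ p ^ k) = iterateFrobenius F p k := by
      funext x
      rw [iterateFrobenius_def]
    rw [h5]
    exact h4
  rw [h3, Matrix.transpose_mul]
  calc Bᵀ * Aᵀ * (A.map (fun x => x ^ q) * B.map (fun x => x ^ q))
      = Bᵀ * (Aᵀ * A.map (fun x => x ^ q)) * B.map (fun x => x ^ q) := by simp only [Matrix.mul_assoc]
    _ = 1 := by rw [h1, Matrix.mul_one, h2]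

theorem UM.one {ι : Type*} [Fintype ι] [DecidableEq ι] (hq : q ≠ 0) : UM e q (1 : Matrix ι ι F) := by
  intro _
  have : (1 : Matrix ι ι F).map (fun x => x ^ q) = 1 := by
    ext i j
    rw [Matrix.map_apply, Matrix.one_apply]
    split_ifs
    · exact one_pow _
    · exact zero_pow hq
  rw [this, Matrix.transpose_one, Matrix.one_mul]

theorem UM.pow {ι : Type*} [Fintype ι] [DecidableEq ι] {p k : ℕ} (hp : p.Prime) [CharP F p] (hq : q = p ^ k)
    {A : Matrix ι ι F} (hA : UM e q A) (j : ℕ) : UM e q (A ^ j) := by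
  induction j with
  | zero =>
    rw [pow_zero]
    exact UM.one (by rw [hq]; exact (Nat.pow_pos hp.pos).ne')
  | succ j ih =>
    rw [pow_succ]
    exact UM.mul hp hq ih hA

/-- **Two blocks, no room.** -/
theorem exists_two_top (h : IsL L e n q F) (hF : Fintype.card F = q ^ (cond e 0 1 + 1)) (hn : 3 ≤ n) {k b N₁ N₂ : ℕ}
    (hkb : k + b = n) (hk : 1 ≤ k) (hb : 1 ≤ b) (hN₁ : 0 < N₁) (hN₂ : 0 < N₂)
    {A : Matrix (Fin k) (Fin k) F} (hA : UM e q A)
    (hoA : orderOf A = N₁) (hdA : A.det = 1) {B : Matrix (Fin b) (Fin b) F} (hB : UM e q B) (hoB : orderOf B = N₂)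
    (hdB : B.det = 1) :
    ∃ x : L, ∃ c, orderOf x * c = Nat.lcm N₁ N₂ ∧ c ∣ Nat.gcd n (AA e 1 q) := by
  have hq : 2 ≤ q := two_le_of_card hF
  have hAN : A ^ N₁ = 1 := by rw [← hoA]; exact pow_orderOf_eq_one A
  have hBN : B ^ N₂ = 1 := by rw [← hoB]; exact pow_orderOf_eq_one B
  let σ : (Fin k ⊕ Fin b) ≃ Fin n := Fintype.equivFinOfCardEq (by simp; omega)
  let C : Matrix (Fin n) (Fin n) F := reindexAlgEquiv F F σ (fromBlocks A 0 0 B)
  have hCU : UM e q C := UM.reindex σ (UM.block (by omega) hA hB)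
  have hCdet : C.det = 1 := by
    show (Matrix.reindex σ σ _).det = 1
    rw [Matrix.det_reindex_self, Matrix.det_fromBlocks_zero₂₁, hdA, hdB, one_mul]
  have hCpow : ∀ j, C ^ j = reindexAlgEquiv F F σ (fromBlocks (A ^ j) 0 0 (B ^ j)) := by
    intro j
    show (reindexAlgEquiv F F σ _) ^ j = _
    rw [← map_pow, fromBlocks_pow']
  obtain ⟨x, hx1, hx2⟩ := IsL_exists h hF hn hCdet hCU
  have hlcm1 : x ^ Nat.lcm N₁ N₂ = 1 := by
    apply hx1
    obtain ⟨a, ha⟩ := Nat.dvd_lcm_left N₁ N₂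
    obtain ⟨b', hb'⟩ := Nat.dvd_lcm_right N₁ N₂
    have h1 : A ^ Nat.lcm N₁ N₂ = 1 := by rw [ha, pow_mul, hAN, one_pow]
    have h2 : B ^ Nat.lcm N₁ N₂ = 1 := by rw [hb', pow_mul, hBN, one_pow]
    rw [hCpow, h1, h2]
    simp
  have key : ∀ j, x ^ j = 1 → ∃ c : F, A ^ j = Matrix.diagonal (fun _ => c) ∧ B ^ j = Matrix.diagonal (fun _ => c) ∧
      c ^ n = 1 ∧ c ^ AA e 1 q = 1 := by
    intro j hj
    obtain ⟨c, hc, hcn, hcq⟩ := hx2 j hj
    rw [hCpow] at hc
    have hent : ∀ i i', (fromBlocks (A ^ j) 0 0 (B ^ j)) i i' = if i = i' then c else 0 := by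
      intro i i'
      have h1 := congrFun (congrFun hc (σ i)) (σ i')
      rw [Matrix.diagonal_apply] at h1
      simp only [σ.injective.eq_iff] at h1
      rw [← h1]
      simp [coe_reindexAlgEquiv]
    refine ⟨c, ?_, ?_, hcn, hcq⟩
    · ext i i'
      have := hent (Sum.inl i) (Sum.inl i')
      rw [Matrix.diagonal_apply]
      simpa using this
    · ext i i'
      have := hent (Sum.inr i) (Sum.inr i')
      rw [Matrix.diagonal_apply]
      simpa using this
  obtain ⟨c, hc⟩ := orderOf_dvd_of_pow_eq_one hlcm1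
  have hlpos : 0 < Nat.lcm N₁ N₂ := Nat.lcm_pos hN₁ hN₂
  have hxpos : 0 < orderOf x := by
    rcases Nat.eq_zero_or_pos (orderOf x) with h0 | h0
    · rw [h0, zero_mul] at hc
      omega
    · exact h0
  obtain ⟨z, hzA, hzB, hzn, hzq⟩ := key _ (pow_orderOf_eq_one x)
  have hd : ∀ d, z ^ d = 1 → Nat.lcm N₁ N₂ ∣ orderOf x * d := by
    intro d hzd
    apply Nat.lcm_dvd
    · rw [← hoA]
      apply orderOf_dvd_of_pow_eq_one
      rw [pow_mul, hzA, Matrix.diagonal_pow]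
      have : (fun _ : Fin k => z) ^ d = 1 := by funext i; simpa using hzd
      rw [this]
      exact Matrix.diagonal_one
    · rw [← hoB]
      apply orderOf_dvd_of_pow_eq_one
      rw [pow_mul, hzB, Matrix.diagonal_pow]
      have : (fun _ : Fin b => z) ^ d = 1 := by funext i; simpa using hzd
      rw [this]
      exact Matrix.diagonal_one
  refine ⟨x, c, hc.symm, ?_⟩
  have h1 : z ^ Nat.gcd n (AA e 1 q) = 1 := by
    rw [← orderOf_dvd_iff_pow_eq_one]
    exact Nat.dvd_gcd (orderOf_dvd_of_pow_eq_one hzn) (orderOf_dvd_of_pow_eq_one hzq)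
  have h2 := hd _ h1
  rw [hc] at h2
  exact Nat.dvd_of_mul_dvd_mul_left hxpos h2

theorem AA_one_dvd {k : ℕ} (hq : 1 ≤ q) : AA e 1 q ∣ AA e k q := by
  rw [dvd_AA_iff hq]
  have h1 : AA e 1 q ∣ AA e 1 q := dvd_rfl
  rw [dvd_AA_iff hq, pow_one] at h1
  rw [h1, one_pow]

/-- one torus of `SL`, `SU` -/
theorem exists_UM_det {p f : ℕ} (hp : p.Prime) [CharP F p] (hqf : q = p ^ f)
    (hF : Fintype.card F = q ^ (cond e 0 1 + 1)) {k : ℕ} (hk : 1 ≤ k) :
    ∃ A : Matrix (Fin k) (Fin k) F, UM e q A ∧ orderOf A = AA e k q / AA e 1 q ∧ A.det = 1 := by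
  have hq : 2 ≤ q := two_le_of_card hF
  obtain ⟨A, hA, hoA⟩ := exists_UM (F := F) (e := e) hF hk
  have hpos := AA_pos' (e := e) hk hq
  have hpos1 := AA_pos' (e := e) (k := 1) le_rfl hq
  have hA0 : A.det ≠ 0 := by
    intro h0
    have h1 : A.det ^ AA e k q = 1 := by
      rw [← hoA, ← Matrix.det_pow, pow_orderOf_eq_one, Matrix.det_one]
    rw [h0, zero_pow hpos.ne'] at h1
    exact zero_ne_one h1
  refine ⟨A ^ AA e 1 q, UM.pow hp hqf hA _, ?_, ?_⟩
  · rw [orderOf_pow_of_dvd hpos1.ne' (by rw [hoA]; exact AA_one_dvd (by omega)), hoA]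
  · rw [Matrix.det_pow]
    exact det_AA hF hA hA0

/-- **Two tori, no room.** -/
theorem torTop' {p f : ℕ} (hp : p.Prime) [CharP F p] (hqf : q = p ^ f) (h : IsL L e n q F)
    (hF : Fintype.card F = q ^ (cond e 0 1 + 1)) (hn : 3 ≤ n) {k b : ℕ}
    (hk : 1 ≤ k) (hb : 1 ≤ b) (hkb : k + b = n) :
    ∃ x : L, ∃ c, orderOf x * c = Nat.lcm (AA e k q / AA e 1 q) (AA e b q / AA e 1 q) ∧ c ∣ Nat.gcd n (AA e 1 q) := by
  have hq : 2 ≤ q := two_le_of_card hF
  obtain ⟨A, hA, hoA, hdA⟩ := exists_UM_det (F := F) (e := e) hp hqf hF hk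
  obtain ⟨B, hB, hoB, hdB⟩ := exists_UM_det (F := F) (e := e) hp hqf hF hb
  have hpos1 := AA_pos' (e := e) (k := 1) le_rfl hq
  exact exists_two_top h hF hn hkb hk hb
    (Nat.div_pos (Nat.le_of_dvd (AA_pos' hk hq) (AA_one_dvd (by omega))) hpos1)
    (Nat.div_pos (Nat.le_of_dvd (AA_pos' hb hq) (AA_one_dvd (by omega))) hpos1) hA hoA hdA hB hoB hdB

end

/-- **Two tori, no room.** -/
theorem torTop {t : Fam} {p f n : ℕ} {e : Bool} {X : Type u} [Group X] (hp : p.Prime) (h : Fam.Is p f X t)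
    (ht : IsA t n e) (hn : 3 ≤ n) {k b : ℕ} (hk : 1 ≤ k) (hb : 1 ≤ b) (hkb : k + b = n) :
    ∃ x : X, ∃ c, orderOf x * c = Nat.lcm (AA e k (p ^ f) / AA e 1 (p ^ f)) (AA e b (p ^ f) / AA e 1 (p ^ f)) ∧
      c ∣ Nat.gcd n (AA e 1 (p ^ f)) := by
  cases t with
  | psl n' =>
    obtain ⟨rfl, rfl⟩ := ht
    obtain ⟨-, -, F, _, _, hch, hF, E⟩ := h
    exact torTop' (F := F) (e := true) hp rfl (show IsL X true n' (p ^ f) F from E) (by simpa using hF) hn hk hb hkb
  | psu n' =>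
    obtain ⟨rfl, rfl⟩ := ht
    obtain ⟨-, -, F, _, _, hch, hF, E⟩ := h
    exact torTop' (F := F) (e := false) hp rfl (show IsL X false n' (p ^ f) F from E) (by simpa using hF) hn hk hb hkb
  | _ => exact ht.elim

end Cfsg.Agent.R2.Spec.NA
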